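import Cfsg.Agent.Lib.PermAut.MclInv
import Cfsg.Agent.Lib.PermAut.Out
import Cfsg.Agent.Lib.Solv.Hall
import Cfsg.Agent.S0205

/-!
# The McLaughlin group has no subgroup of odd order transitive on its involutions
-/

set_option autoImplicit false
set_option linter.style.haveILetI false
set_option maxRecDepth 100000

namespace Cfsg.Lib.StdMcl

open Cfsg.Lib.PermAut Subgroup

theorem card_kk : Nat.card ↥MclInv.KK = 898128000 := by rw [MclInv.kk_model.2]; decide +kernel

/-- In the model no elements of orders five and eleven commute. -/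
theorem no_five_eleven {y x : ↥MclInv.KK} (hy : orderOf y = 5) (hx : orderOf x = 11)
    (hc : y * x = x * y) : False := by
  classical
  haveI : Fact (Nat.Prime 11) := ⟨by norm_num⟩
  have G := Cert.gen_of_check Mcl.gen_check
  have hK : Nat.card Mcl.cert.K = Mcl.cert.size := Mcl.mcl_model.2
  have hn := Mcl.norm_check
  simp only [Cert.normB, Bool.and_eq_true, Bool.not_eq_true'] at hn
  obtain ⟨⟨⟨hpow, hne⟩, -⟩, -⟩ := hn
  have hs := Mcl.second_check
  simp only [Cert.secondB, Bool.and_eq_true, List.all_eq_true, List.mem_range, List.any_eq_true] at hs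
  obtain ⟨⟨hcs, hcent⟩, -⟩ := hs
  let A : ↥MclInv.KK := ⟨Mcl.cert.P Mcl.cert.a,
    (Subgroup.subset_closure (Set.mem_insert _ _) : Mcl.cert.P Mcl.cert.a ∈ Mcl.cert.K)⟩
  have gA : ∀ n, Mcl.cert.Good (List.replicate n Mcl.cert.a) := fun n T hT => by
    rw [List.eq_of_mem_replicate hT]; exact G.a
  have hA11 : A ^ 11 = 1 := Subtype.ext (by
    have h := Cert.eq_of_same (gA _) (fun _ h => by simp at h) hpow
    rw [Cert.prd_replicate] at h
    show Mcl.cert.P Mcl.cert.a ^ 11 = 1
    exact h.trans (by simp [Cert.prd]))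
  have hA1 : A ≠ 1 := fun h => by
    have : sameB Mcl.cert.b Mcl.cert.N [Mcl.cert.a] [] = true :=
      Cert.same_of_eq (fun T hT => by rw [List.mem_singleton.1 hT]; exact G.a) (fun _ h => by simp at h) (by
        have e : Mcl.cert.P Mcl.cert.a = 1 := congrArg Subtype.val h
        simpa [Cert.prd] using e)
    rw [this] at hne
    exact Bool.noConfusion hne
  have hAo : orderOf A = 11 := orderOf_eq_prime hA11 hA1
  have hfac : (898128000 : ℕ).factorization 11 = 1 := by
    rw [show (898128000 : ℕ) = 11 * 81648000 by norm_num, Nat.factorization_mul (by norm_num) (by norm_num),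
      Finsupp.add_apply, Nat.Prime.factorization_self (by norm_num),
      Nat.factorization_eq_zero_of_not_dvd (by norm_num : ¬ 11 ∣ 81648000)]
  let P : Sylow 11 ↥MclInv.KK := Sylow.ofCard (zpowers A) (by rw [Nat.card_zpowers, hAo, card_kk, hfac, pow_one])
  let Q : Sylow 11 ↥MclInv.KK := Sylow.ofCard (zpowers x) (by rw [Nat.card_zpowers, hx, card_kk, hfac, pow_one])
  obtain ⟨g, hg⟩ := MulAction.exists_smul_eq ↥MclInv.KK Q P
  have hx' : g * x * g⁻¹ ∈ zpowers A := by
    have hm : g * x * g⁻¹ ∈ ((g • Q : Sylow 11 ↥MclInv.KK) : Subgroup ↥MclInv.KK) := ⟨x, mem_zpowers x, rfl⟩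
    rw [hg] at hm
    exact hm
  have hA' : A ∈ zpowers (g * x * g⁻¹) := by
    have h11 : orderOf (g * x * g⁻¹) = 11 := by rw [← hx]; exact MulEquiv.orderOf_eq (MulAut.conj g) x
    rw [Subgroup.eq_of_le_of_card_ge (zpowers_le.2 hx') (by rw [Nat.card_zpowers, Nat.card_zpowers, hAo, h11])]
    exact mem_zpowers A
  obtain ⟨j, hj⟩ := mem_zpowers_iff.1 hA'
  have hcy : Commute (g * y * g⁻¹) A := by
    rw [← hj]
    refine Commute.zpow_right ?_ j
    show _ = _
    calc g * y * g⁻¹ * (g * x * g⁻¹) = g * (y * x) * g⁻¹ := by group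
      _ = _ := by rw [hc]; group
  obtain ⟨r, hr, hrg, hrep⟩ := Cert.found G hK G.a G.a (g * y * g⁻¹ : ↥MclInv.KK).2
    (congrArg Subtype.val hcy.eq) hcs
  obtain ⟨i, -, hi⟩ := hcent r hr
  have he := Cert.eq_of_same (c := Mcl.cert) hrep (gA i) hi
  rw [Cert.prd_replicate] at he
  have hy' : g * y * g⁻¹ = A ^ i := Subtype.ext (hrg.symm.trans he)
  have h1 : orderOf (g * y * g⁻¹) = 5 := by rw [← hy]; exact MulEquiv.orderOf_eq (MulAut.conj g) y
  have h2 : orderOf (g * y * g⁻¹) ∣ 11 := by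
    rw [hy', ← hAo]; exact orderOf_pow_dvd i
  rw [h1] at h2
  norm_num at h2

/-- No subgroup of odd order of the model has order a multiple of the number of involutions. -/
theorem odd_not_dvd {D : Subgroup ↥MclInv.KK} (hodd : Odd (Nat.card D)) (h : 22275 ∣ Nat.card D) : False := by
  classical
  haveI : Fact (Nat.Prime 11) := ⟨by norm_num⟩
  haveI : Fact (Nat.Prime 5) := ⟨by norm_num⟩
  haveI : Group.IsSolvable D := Cfsg.Agent.S0205.result hodd
  have hd : Nat.card D ∣ 2 ^ 7 * 7016625 := by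
    rw [show 2 ^ 7 * 7016625 = 898128000 by norm_num, ← card_kk]; exact D.card_subgroup_dvd_card
  replace hd : Nat.card D ∣ 7016625 :=
    ((Nat.coprime_two_right.2 hodd).pow_right 7).dvd_of_dvd_mul_left hd
  obtain ⟨q, hq⟩ := hd
  obtain ⟨e, he⟩ := h
  have heq : e * q = 315 := by
    have : 22275 * (e * q) = 22275 * 315 := by rw [← mul_assoc, ← he, ← hq]
    exact Nat.eq_of_mul_eq_mul_left (by norm_num) this
  have he0 : e ∣ 315 := ⟨q, heq.symm⟩
  obtain ⟨m, k, hm, hmk, hcop⟩ : ∃ m k : ℕ, (m = 275 ∨ m = 1375) ∧ Nat.card D = m * k ∧ m.Coprime k := by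
    by_cases h5 : 5 ∣ e
    · obtain ⟨f, rfl⟩ := h5
      refine ⟨1375, 81 * f, Or.inr rfl, by rw [he]; ring, ?_⟩
      have hf : f ∣ 63 := Nat.dvd_of_mul_dvd_mul_left (show 0 < 5 by norm_num) (by exact he0)
      exact Nat.Coprime.mul_right (by norm_num) (Nat.Coprime.coprime_dvd_right hf (by norm_num))
    · refine ⟨275, 81 * e, Or.inl rfl, by rw [he]; ring, ?_⟩
      have hf : e ∣ 63 := ((Nat.prime_five.coprime_iff_not_dvd.2 h5).symm).dvd_of_dvd_mul_left
        (show e ∣ 5 * 63 from he0)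
      exact Nat.Coprime.mul_right (by norm_num) (Nat.Coprime.coprime_dvd_right hf (by norm_num))
  obtain ⟨H, hH⟩ := Cfsg.Lib.Solv.hall_exists hmk hcop
  obtain ⟨P⟩ := (inferInstance : Nonempty (Sylow 11 H))
  have hPc : Nat.card (P : Subgroup H) = 11 := by
    rw [P.card_eq_multiplicity, hH]
    rcases hm with rfl | rfl
    · rw [show (275 : ℕ) = 11 * 25 by norm_num, Nat.factorization_mul (by norm_num) (by norm_num),
        Finsupp.add_apply, Nat.Prime.factorization_self (by norm_num),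
        Nat.factorization_eq_zero_of_not_dvd (by norm_num : ¬ 11 ∣ 25), pow_one]
    · rw [show (1375 : ℕ) = 11 * 125 by norm_num, Nat.factorization_mul (by norm_num) (by norm_num),
        Finsupp.add_apply, Nat.Prime.factorization_self (by norm_num),
        Nat.factorization_eq_zero_of_not_dvd (by norm_num : ¬ 11 ∣ 125), pow_one]
  have hidx : (P : Subgroup H).index ∣ 125 ∧ 25 ∣ Nat.card H := by
    have := (P : Subgroup H).card_mul_index
    rw [hPc, hH] at this
    rw [hH]
    rcases hm with rfl | rfl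
    · exact ⟨by rw [show (P : Subgroup H).index = 25 by omega]; norm_num, by norm_num⟩
    · exact ⟨by rw [show (P : Subgroup H).index = 125 by omega], by norm_num⟩
  have hone : Nat.card (Sylow 11 H) = 1 := by
    have h1 : Nat.card (Sylow 11 H) ∈ Nat.divisors 125 :=
      Nat.mem_divisors.2 ⟨P.card_dvd_index.trans hidx.1, by norm_num⟩
    have h2 : Nat.card (Sylow 11 H) % 11 = 1 := card_sylow_modEq_one 11 H
    have : ∀ n ∈ Nat.divisors 125, n % 11 = 1 → n = 1 := by decide +kernel
    exact this _ h1 h2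
  haveI : Subsingleton (Sylow 11 H) := (Nat.card_eq_one_iff_unique.1 hone).1
  haveI : (P : Subgroup H).Normal := P.normal_of_subsingleton
  haveI : IsCyclic (P : Subgroup H) := isCyclic_of_prime_card hPc
  obtain ⟨S, hS⟩ := Sylow.exists_subgroup_card_pow_prime (G := H) 5 (n := 2) hidx.2
  let ψ : S →* MulAut (P : Subgroup H) := (MulAut.conjNormal).comp S.subtype
  have hA : Nat.card (MulAut (P : Subgroup H)) = 10 := by
    rw [IsCyclic.card_mulAut, hPc, Nat.totient_prime (by norm_num)]
  have hk : ψ.ker ≠ ⊥ := fun hbot => by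
    have := Subgroup.card_dvd_of_injective ψ ((MonoidHom.ker_eq_bot_iff ψ).1 hbot)
    rw [hS, hA] at this
    norm_num at this
  obtain ⟨⟨s, hs⟩, hs1⟩ := (Subgroup.ne_bot_iff_exists_ne_one).1 hk
  have hs5 : orderOf s ∣ 5 ^ 2 := hS ▸ orderOf_dvd_natCard s
  obtain ⟨i, hi, hio⟩ := (Nat.dvd_prime_pow (by norm_num)).1 hs5
  have hi0 : i ≠ 0 := fun h0 => by
    rw [h0, pow_zero] at hio
    exact hs1 (Subtype.ext (orderOf_eq_one_iff.1 hio))
  obtain ⟨x, hx⟩ := exists_prime_orderOf_dvd_card' (G := (P : Subgroup H)) 11 (by rw [hPc])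
  have hc : Commute (s : H) (x : H) := by
    have := congrArg (fun f : MulAut (P : Subgroup H) => ((f x : (P : Subgroup H)) : H)) (MonoidHom.mem_ker.1 hs)
    simp only [ψ, MonoidHom.comp_apply, Subgroup.coe_subtype, MulAut.conjNormal_apply, MulAut.one_apply] at this
    exact mul_inv_eq_iff_eq_mul.1 this
  refine no_five_eleven (y := (((s ^ 5 ^ (i - 1) : S) : H) : D).1) (x := ((x : H) : D).1) ?_ ?_ ?_
  · rw [Subgroup.orderOf_coe, Subgroup.orderOf_coe, Subgroup.orderOf_coe, orderOf_pow' _ (by positivity), hio,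
      Nat.gcd_eq_right (pow_dvd_pow 5 (Nat.sub_le i 1)), Nat.pow_div (Nat.sub_le i 1) (by norm_num),
      show i - (i - 1) = 1 by omega, pow_one]
  · rw [Subgroup.orderOf_coe, Subgroup.orderOf_coe, Subgroup.orderOf_coe, hx]
  · have := congrArg (fun z : H => ((z : D) : ↥MclInv.KK)) ((hc.pow_left (5 ^ (i - 1))).eq)
    simpa using this

end Cfsg.Lib.StdMcl
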