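import Cfsg.Agent.Lib.StdMcl.Fusion
import Cfsg.Agent.Lib.StdMcl.FiftyFive
import Cfsg.Agent.Lib.Invol.Embedded
import Cfsg.Agent.S3334

/-!
# The centralizer of the standard double cover has trivial odd part
-/

set_option autoImplicit false
set_option linter.style.haveILetI false
set_option linter.unusedSectionVars false
set_option maxRecDepth 20000

namespace Cfsg.Lib.StdMcl

open Equiv Equiv.Perm Subgroup Cfsg.Lib.CoverAlt
open scoped commutatorElement

variable {G : Type*} [Group G] {L : Subgroup G} {C : Cov L 8} [Finite G] {g : G}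

/-- No odd subgroup of the McLaughlin group is transitive on its involutions. -/
theorem no_odd_transitive {Q : Type*} [Group Q] [Finite Q] (e : Q ≃* Cfsg.Spor.McL) {z : Q}
    (hc : Nat.card (centralizer ({z} : Set Q)) = 40320) (D : Subgroup Q) (hodd : Odd (Nat.card D))
    (htr : ∀ y : Q, ∃ d ∈ D, y * z * y⁻¹ = d * z * d⁻¹) : False := by
  classical
  obtain ⟨⟨k⟩, -⟩ := PermAut.MclInv.kk_model
  have hQ : Nat.card Q = 898128000 := (Nat.card_congr (e.trans k).toEquiv).trans card_kk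
  have hidx : (centralizer ({z} : Set Q)).index = 22275 := by
    have := (centralizer ({z} : Set Q)).card_mul_index
    rw [hc, hQ] at this
    omega
  have h2 : ((centralizer ({z} : Set Q)).subgroupOf D).index = 22275 := by
    rw [← hidx]
    refine Nat.card_congr (Equiv.ofBijective
      (fun x : D ⧸ (centralizer ({z} : Set Q)).subgroupOf D => Quotient.liftOn' x
        (fun d : D => ((d : Q) : Q ⧸ centralizer ({z} : Set Q)))
        fun a b hab => QuotientGroup.eq.2 (mem_subgroupOf.1 (QuotientGroup.leftRel_apply.1 hab) :))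
      ⟨?_, ?_⟩)
    · intro a b
      refine Quotient.inductionOn₂' a b fun a b hab => ?_
      exact Quotient.sound' (QuotientGroup.leftRel_apply.2 (mem_subgroupOf.2 (QuotientGroup.eq.1 hab)))
    · intro y
      obtain ⟨y, rfl⟩ := QuotientGroup.mk_surjective y
      obtain ⟨d, hd, hde⟩ := htr y
      refine ⟨Quotient.mk'' ⟨d, hd⟩, QuotientGroup.eq.2 (mem_centralizer_singleton_iff.2 ?_)⟩
      show d⁻¹ * y * z = z * (d⁻¹ * y)
      calc d⁻¹ * y * z = d⁻¹ * (y * z * y⁻¹) * y := by group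
        _ = d⁻¹ * (d * z * d⁻¹) * y := by rw [hde]
        _ = _ := by group
  refine odd_not_dvd (D := D.map (e.trans k).toMonoidHom) ?_ ?_
  · rwa [← Nat.card_congr (D.equivMapOfInjective (e.trans k).toMonoidHom (e.trans k).injective).toEquiv]
  · rw [← Nat.card_congr (D.equivMapOfInjective (e.trans k).toMonoidHom (e.trans k).injective).toEquiv, ← h2]
    exact index_dvd_card _

namespace Sit

variable (S : Sit C)

include S

theorem norm_K {m k : G} (hm : m * C.s = C.s * m) (hk : k ∈ centralizer (L : Set G)) :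
    m * k * m⁻¹ ∈ centralizer (L : Set G) := mem_centralizer_iff.2 fun x hx => by
  have hx' : m⁻¹ * x * m ∈ L := by
    have := (mem_normalizer_iff.1 (inv_mem (S.norm m hm)) x).1 hx
    rwa [inv_inv] at this
  calc x * (m * k * m⁻¹) = m * (m⁻¹ * x * m * k) * m⁻¹ := by group
    _ = m * (k * (m⁻¹ * x * m)) * m⁻¹ := by rw [mem_centralizer_iff.1 hk _ hx']
    _ = _ := by group

/-- A neighbour normalizes the odd part. -/
theorem core_mem_normalizer {W : Subgroup G} (hWK : W ≤ centralizer (L : Set G)) (hodd : Odd (Nat.card W))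
    (hWmem : ∀ k ∈ centralizer (L : Set G), ∀ n : ℕ, Odd n → k ^ n = 1 → k ∈ W) (N : Nb C g) :
    g ∈ normalizer (W : Set G) := by
  classical
  have hcard : ∀ k ∈ W, k ^ Nat.card W = 1 := fun k hk =>
    congrArg Subtype.val (pow_card_eq_one' (x := (⟨k, hk⟩ : W)))
  obtain ⟨l', hl', hf'⟩ := S.nb_mem N
  obtain ⟨v, hv, hf⟩ := S.nb_mem N.symm
  rw [inv_inv] at hv
  have hv2 : C.p v * C.p v = 1 := by
    rw [← map_mul, show v * v = 1 from Subtype.ext (by
      rw [Subgroup.coe_mul, hv, Subgroup.coe_one,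
        show g⁻¹ * (C.s : G) * g * (g⁻¹ * C.s * g) = g⁻¹ * ((C.s : G) * C.s) * g by group, S.z2]
      group), map_one]
  -- the conjugate of an element of the odd part centralizes the central involution
  have hz : ∀ w ∈ W, g⁻¹ * w * g * C.s = C.s * (g⁻¹ * w * g) := fun w hw => by
    have : (l' : G) * w = w * l' := S.kl (hWK hw) l'
    rw [hl'] at this
    calc g⁻¹ * w * g * C.s = g⁻¹ * (w * (g * C.s * g⁻¹)) * g := by group
      _ = g⁻¹ * (g * C.s * g⁻¹ * w) * g := by rw [this]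
      _ = _ := by group
  have hcube : ∀ w ∈ W, pi C (g⁻¹ * w * g) ^ 3 = 1 ∧ Commute (C.p v) (pi C (g⁻¹ * w * g)) := fun w hw => by
    have hc : Commute (C.p v) (pi C (g⁻¹ * w * g)) := by
      rw [← S.pi_L v]
      refine S.pi_commute (S.lz v) (hz w hw) ?_
      show _ = _
      rw [hv]
      calc g⁻¹ * C.s * g * (g⁻¹ * w * g) = g⁻¹ * (C.s * w) * g := by group
        _ = g⁻¹ * (w * C.s) * g := by rw [S.kz (hWK hw)]
        _ = _ := by group
    refine ⟨cube_of_odd hv2 hf hc hodd ?_, hc⟩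
    rw [← S.pi_pow (hz w hw), show g⁻¹ * w * g = g⁻¹ * w * g⁻¹⁻¹ by rw [inv_inv], conj_pow, hcard w hw, inv_inv,
      mul_one, inv_mul_cancel, S.pi_one]
  -- so it lies in the odd part
  have hin : ∀ w ∈ W, g⁻¹ * w * g ∈ W := by
    intro w hw
    refine hWmem _ (S.mem_K_of_pi (hz w hw) ?_) (Nat.card W) hodd (by
      rw [show g⁻¹ * w * g = g⁻¹ * w * g⁻¹⁻¹ by rw [inv_inv], conj_pow, hcard w hw]; group)
    by_contra hy1
    obtain ⟨hy, hyc⟩ := hcube w hw
    obtain ⟨σ, hσ, hσc, hne⟩ := exists_not_normalizing hv2 hf hy hy1 hyc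
    obtain ⟨x, rfl, hx⟩ := S.exists_cube_lift hσ
    have hxv : Commute (v : G) (x : G) := S.comm_cube (S.lz v) hx (by rw [S.pi_L]; exact hσc)
    set h := g * x * g⁻¹ with hh
    have hhz : h * C.s = C.s * h := by
      rw [hh]
      calc g * x * g⁻¹ * C.s = g * (x * (g⁻¹ * C.s * g)) * g⁻¹ := by group
        _ = g * (g⁻¹ * C.s * g * x) * g⁻¹ := by rw [← hv, hxv.eq]
        _ = _ := by group
    have hw' : h * w * h⁻¹ ∈ W := hWmem _ (S.norm_K hhz (hWK hw)) _ hodd (by
      rw [conj_pow, hcard w hw, mul_one, mul_inv_cancel])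
    refine hne ?_
    have := (hcube _ (mul_mem hw hw')).1
    have e : g⁻¹ * (w * (h * w * h⁻¹)) * g = g⁻¹ * w * g * (x * (g⁻¹ * w * g) * (x : G)⁻¹) := by
      rw [hh]; group
    rw [e, S.pi_mul (hz w hw)
        (Commute.mul_left (Commute.mul_left (S.lz x) (hz w hw)) (Commute.inv_left (S.lz x))).eq,
      S.pi_mul (Commute.mul_left (S.lz x) (hz w hw)).eq (Commute.inv_left (S.lz x)).eq,
      S.pi_mul (S.lz x) (hz w hw), S.pi_inv (S.lz x), S.pi_L] at this
    exact this
  have hmap : W.map (MulAut.conj g⁻¹).toMonoidHom = W := by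
    refine Subgroup.eq_of_le_of_card_ge ?_ (by rw [card_map_of_injective (MulAut.conj g⁻¹).injective])
    rintro _ ⟨w, hw, rfl⟩
    show g⁻¹ * w * g⁻¹⁻¹ ∈ W
    rw [inv_inv]; exact hin w hw
  refine inv_mem_iff.1 (mem_normalizer_iff.2 fun w => ?_)
  rw [inv_inv]
  refine ⟨hin w, fun h => ?_⟩
  rw [← hmap] at h
  obtain ⟨w', hw', e⟩ := h
  rw [show w = w' from mul_left_cancel (mul_right_cancel (e.symm.trans (by
    show g⁻¹ * w' * g⁻¹⁻¹ = g⁻¹ * w' * g; rw [inv_inv])))]
  exact hw'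

set_option maxHeartbeats 800000 in
/-- The odd part of the centralizer of the cover is trivial. -/
theorem core_trivial [IsSimpleGroup G] (hG : ¬ IsMulCommutative G) (N : Nb C g) :
    centralizer ({(C.s : G)} : Set G) ≤ L := by
  classical
  haveI : Fact (Nat.Prime 2) := ⟨Nat.prime_two⟩
  obtain ⟨W, hWK, hodd, hW, hWmem⟩ := S.exists_core ⟨g, N⟩
  have hzW : (C.s : G) ∉ W := fun h => by
    have := Subgroup.orderOf_dvd_natCard W h
    rw [S.zo] at this
    exact Nat.not_even_iff_odd.2 hodd (even_iff_two_dvd.2 this)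
  have hdec : ∀ m : G, m * C.s = C.s * m → ∃ l : L, ∃ w ∈ W, m = (l : G) * w := fun m hm => by
    obtain ⟨l, k, hk, rfl⟩ := S.split hm (S.even_of_simple hG N hm)
    rcases hW k hk with h | h
    · exact ⟨l, k, h, rfl⟩
    · refine ⟨l * C.s, k * C.s, h, ?_⟩
      rw [Subgroup.coe_mul]
      calc (l : G) * k = (l : G) * ((C.s : G) * C.s) * k := by rw [S.z2, mul_one]
        _ = l * C.s * (C.s * k) := by group
        _ = _ := by rw [S.kz hk]
  suffices hbot : W = ⊥ by
    intro m hm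
    obtain ⟨l, w, hw, rfl⟩ := hdec m (mem_centralizer_singleton_iff.1 hm)
    rw [hbot, mem_bot] at hw
    rw [hw, mul_one]; exact l.2
  by_contra hne
  set M := normalizer (W : Set G) with hM
  haveI : Nontrivial G := ⟨⟨C.s, 1, S.z1⟩⟩
  have hMtop : M ≠ ⊤ := fun h => by
    rcases (normalizer_eq_top_iff.1 h).eq_bot_or_eq_top with e | e
    · exact hne e
    · exact hzW (e ▸ mem_top _)
  have hCM : ∀ m : G, m * C.s = C.s * m → m ∈ M := by
    have hle : ∀ m : G, m * C.s = C.s * m → ∀ w ∈ W, m * w * m⁻¹ ∈ W := fun m hm w hw =>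
      hWmem _ (S.norm_K hm (hWK hw)) _ hodd (by
        rw [conj_pow, show w ^ Nat.card W = 1 from congrArg Subtype.val (pow_card_eq_one' (x := (⟨w, hw⟩ : W))),
          mul_one, mul_inv_cancel])
    refine fun m hm => mem_normalizer_iff.2 fun w => ⟨hle m hm w, fun h => ?_⟩
    have := hle m⁻¹ (Commute.inv_left hm).eq _ h
    rwa [show m⁻¹ * (m * w * m⁻¹) * m⁻¹⁻¹ = w by group] at this
  have hconjM : ∀ h : G, h * C.s * h⁻¹ * C.s = C.s * (h * C.s * h⁻¹) → h ∈ M := fun h hh => by
    by_cases hc : h * C.s = C.s * h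
    · exact hCM h hc
    · exact S.core_mem_normalizer hWK hodd hWmem (g := h) ⟨hh, hc⟩
  have hzM : (C.s : G) ∈ M := hCM _ rfl
  obtain ⟨P, hP⟩ := S.exists_sylow N
  have hPM : (P : Subgroup G) ≤ M := fun x hx => hCM x (hP x hx)
  -- every involution of the normalizer is conjugate in it to the central one
  have hinv : ∀ x ∈ M, orderOf x = 2 → ∃ m ∈ M, m * C.s * m⁻¹ = x := by
    intro x hx hxo
    have hp : IsPGroup 2 (zpowers (⟨x, hx⟩ : M)) := IsPGroup.of_card (n := 1) (by
      rw [Nat.card_zpowers, pow_one, Subgroup.orderOf_mk, hxo])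
    obtain ⟨Q, hQ⟩ := hp.exists_le_sylow
    obtain ⟨c, hc⟩ := MulAction.exists_smul_eq M Q (P.subtype hPM)
    have hmem : c * ⟨x, hx⟩ * c⁻¹ ∈ ((P.subtype hPM : Sylow 2 M) : Subgroup M) := by
      rw [← hc]; exact ⟨_, hQ (mem_zpowers _), rfl⟩
    set p := (c : G) * x * (c : G)⁻¹ with hp'
    have hpP : p ∈ (P : Subgroup G) := mem_subgroupOf.1 hmem
    have hxx : x * x = 1 := by rw [← pow_two, ← hxo, pow_orderOf_eq_one]
    have hp2 : p * p = 1 := by
      rw [hp', show (c : G) * x * (c : G)⁻¹ * (c * x * (c : G)⁻¹) = c * (x * x) * (c : G)⁻¹ by group, hxx]; group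
    have hpL := S.two_elt_even N (hP p hpP) (S.even_of_simple hG N (hP p hpP)) (n := 1)
      (by rw [pow_one, pow_two, hp2])
    obtain ⟨h, hh⟩ := S.inv_L_conj N (x := ⟨p, hpL⟩) (Subtype.ext hp2) fun e => by
      have : x = 1 := conj_eq_one_iff.1 (congrArg Subtype.val e)
      rw [this, orderOf_one] at hxo; norm_num at hxo
    have hhM : h ∈ M := hconjM h (by rw [hh]; exact hP p hpP)
    refine ⟨(c : G)⁻¹ * h, mul_mem (inv_mem c.2) hhM, ?_⟩
    calc (c : G)⁻¹ * h * C.s * ((c : G)⁻¹ * h)⁻¹ = (c : G)⁻¹ * (h * C.s * h⁻¹) * c := by group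
      _ = x := by rw [hh]; show (c : G)⁻¹ * p * c = x; simp only [p]; group
  have heven : Even (Nat.card M) := by
    rw [even_iff_two_dvd, ← S.zo]; exact Subgroup.orderOf_dvd_natCard _ hzM
  have hse : Cfsg.IsStronglyEmbedded M := by
    refine (Invol.stronglyEmbedded_iff hMtop heven).2 fun x hx hxo a ha => ?_
    obtain ⟨m, hm, e⟩ := hinv x hx hxo
    obtain ⟨m', hm', e'⟩ := hinv _ ha (by rw [Invol.orderOf_conj_eq, hxo])
    have hcz : m'⁻¹ * a * m * C.s = C.s * (m'⁻¹ * a * m) := by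
      calc m'⁻¹ * a * m * C.s = m'⁻¹ * (a * (m * C.s * m⁻¹) * a⁻¹) * (a * m) := by group
        _ = m'⁻¹ * (m' * C.s * m'⁻¹) * (a * m) := by rw [e, e']
        _ = _ := by group
    have := mul_mem (mul_mem hm' (hCM _ hcz)) (inv_mem hm)
    rwa [show m' * (m'⁻¹ * a * m) * m⁻¹ = a by group] at this
  obtain ⟨u, hu, huM⟩ : ∃ u : G, orderOf u = 2 ∧ u ∉ M := by
    by_contra hno
    push Not at hno
    have hsub : Subgroup.normalClosure ({(C.s : G)} : Set G) ≤ M := by
      rw [Subgroup.normalClosure, closure_le]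
      intro y hy
      obtain ⟨a, ha, hay⟩ := Group.mem_conjugatesOfSet_iff.1 hy
      rw [Set.mem_singleton_iff] at ha
      subst ha
      obtain ⟨b, rfl⟩ := isConj_iff.1 hay
      exact hno _ (by rw [Invol.orderOf_conj_eq, S.zo])
    rcases (Subgroup.normalClosure_normal (s := ({(C.s : G)} : Set G))).eq_bot_or_eq_top with e | e
    · exact S.z1 (mem_bot.1 (e ▸ Subgroup.subset_normalClosure rfl))
    · exact hMtop (top_le_iff.1 (e ▸ hsub))
  set D := M ⊓ M.map (MulAut.conj u).toMonoidHom with hD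
  have hDodd : Odd (Nat.card D) := hse.2.2 u huM
  -- pass to the quotient by the odd part
  let Wn := W.subgroupOf M
  haveI : Wn.Normal := ⟨fun w hw m => mem_subgroupOf.2 ((mem_normalizer_iff.1 m.2 _).1 (mem_subgroupOf.1 hw))⟩
  let q := QuotientGroup.mk' Wn
  let zM : M := ⟨C.s, hzM⟩
  set zb := q zM with hzb
  have hq : ∀ m : M, q m = 1 ↔ (m : G) ∈ W := fun m => by
    rw [QuotientGroup.mk'_apply, QuotientGroup.eq_one_iff]; exact mem_subgroupOf
  have hzbo : orderOf zb = 2 := orderOf_eq_prime (by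
    rw [hzb, ← map_pow, show zM ^ 2 = 1 from Subtype.ext (by rw [pow_two]; exact S.z2), map_one]) fun e =>
    hzW ((hq zM).1 e)
  have hcomm : ∀ m : M, q m * zb = zb * q m → (m : G) * C.s = C.s * m := fun m hm => by
    have h1 : (m : G) * C.s * (m : G)⁻¹ * (C.s : G)⁻¹ ∈ W := by
      have := (hq (m * zM * m⁻¹ * zM⁻¹)).1 (by
        rw [map_mul, map_mul, map_mul, map_inv, map_inv, ← hzb, hm, mul_inv_cancel_right, mul_inv_cancel])
      simpa [zM] using this
    set w := (m : G) * C.s * (m : G)⁻¹ * (C.s : G)⁻¹ with hw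
    have hmm : (m : G) * C.s * (m : G)⁻¹ = w * C.s := by rw [hw, inv_mul_cancel_right]
    have hsq : w * w = 1 := by
      have h2 : w * C.s * (w * C.s) = 1 := by
        rw [← hmm, show (m : G) * C.s * (m : G)⁻¹ * (m * C.s * (m : G)⁻¹) = m * ((C.s : G) * C.s) * (m : G)⁻¹ by
          group, S.z2]
        group
      rwa [(show Commute w (C.s : G) from S.kz (hWK h1)).symm.mul_mul_mul_comm, S.z2, mul_one] at h2
    have hw1 : w = 1 := by
      refine orderOf_eq_one_iff.1 (Nat.eq_one_of_dvd_coprimes hodd.coprime_two_right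
        (Subgroup.orderOf_dvd_natCard _ h1) (orderOf_dvd_of_pow_eq_one (by rw [pow_two, hsq])))
    rw [hw1, one_mul] at hmm
    exact mul_inv_eq_iff_eq_mul.1 hmm
  let ι : L →* centralizer ({zb} : Set (M ⧸ Wn)) :=
    (q.comp (Subgroup.inclusion fun x hx => hCM x (S.lz ⟨x, hx⟩))).codRestrict _ fun l =>
      mem_centralizer_singleton_iff.2 (by
        rw [MonoidHom.comp_apply, hzb, ← map_mul, ← map_mul]
        exact congrArg q (Subtype.ext (S.lz l)))
  have hι : Function.Bijective ι := by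
    refine ⟨(injective_iff_map_eq_one ι).2 fun l hl => ?_, fun y => ?_⟩
    · have hlW : (l : G) ∈ W := (hq _).1 (congrArg Subtype.val hl)
      rcases S.inter (hWK hlW) with e | e
      · exact e
      · exact absurd (e ▸ hlW) hzW
    · obtain ⟨m, hm⟩ := QuotientGroup.mk'_surjective Wn (y : M ⧸ Wn)
      obtain ⟨l, w, hw, e⟩ := hdec m (hcomm m (by
        rw [show q m = (y : M ⧸ Wn) from hm]; exact mem_centralizer_singleton_iff.1 y.2))
      refine ⟨l, Subtype.ext ?_⟩
      show q _ = _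
      rw [← hm]
      refine (QuotientGroup.eq.2 (mem_subgroupOf.2 ?_))
      push_cast
      rw [e, ← mul_assoc, coe_inclusion, inv_mul_cancel, one_mul]
      exact hw
  have hcov0 : IsNonsplitDoubleCover L (alternatingGroup (Fin 8)) → False := by
    intro hcov
    have hcov' := PermAut.MclInv.double_cover_congr (MulEquiv.ofBijective ι hι) hcov
    rcases Cfsg.Agent.S3334.result zb hzbo hcov' with h | hiso
    · obtain ⟨l', hl', hf'⟩ := S.nb_mem N
      have hgM : g ∈ M := hconjM g N.hz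
      set gb := q ⟨g, hgM⟩ with hgb
      haveI : (Cfsg.oddCore (M ⧸ Wn)).Normal := inferInstanceAs (Cfsg.pPrimeCore 2 (M ⧸ Wn)).Normal
      obtain ⟨o, ho, c, hc, hoc⟩ := Subgroup.mem_sup_of_normal_left.1
        (show gb ∈ Cfsg.oddCore (M ⧸ Wn) ⊔ centralizer {zb} by rw [sup_comm, h]; exact mem_top _)
      have hcz := mem_centralizer_singleton_iff.1 hc
      set eb := gb * zb * gb⁻¹ with heb
      have he : eb = o * zb * o⁻¹ := by
        rw [heb, ← hoc, show o * c * zb * (o * c)⁻¹ = o * (c * zb) * c⁻¹ * o⁻¹ by group, hcz]; group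
      have hce : eb * zb = zb * eb := by
        rw [heb, hzb, hgb, ← map_inv, ← map_mul, ← map_mul, ← map_mul, ← map_mul]
        exact congrArg q (Subtype.ext N.hz)
      have hmem : eb * zb ∈ Cfsg.oddCore (M ⧸ Wn) := by
        have hzz : zb⁻¹ = zb := inv_eq_of_mul_eq_one_right (by rw [← pow_two, ← hzbo, pow_orderOf_eq_one])
        have h2 := mul_mem ho
          ((inferInstance : (Cfsg.oddCore (M ⧸ Wn)).Normal).conj_mem o⁻¹ (inv_mem ho) zb)
        rw [hzz] at h2
        rwa [he, show o * zb * o⁻¹ * zb = o * (zb * o⁻¹ * zb) by group]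
      have hsq : eb * zb * (eb * zb) = 1 := by
        have hz2 : zb * zb = 1 := by rw [← pow_two, ← hzbo, pow_orderOf_eq_one]
        have he2 : eb * eb = 1 := by
          rw [heb, show gb * zb * gb⁻¹ * (gb * zb * gb⁻¹) = gb * (zb * zb) * gb⁻¹ by group, hz2]; group
        rw [(show Commute eb zb from hce).symm.mul_mul_mul_comm, he2, hz2, one_mul]
      have h1 : eb * zb = 1 := orderOf_eq_one_iff.1 (Nat.eq_one_of_dvd_coprimes
        (Cfsg.Lib.Core.pPrimeCore_coprime 2 (M ⧸ Wn)) (Subgroup.orderOf_dvd_natCard _ hmem)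
        (orderOf_dvd_of_pow_eq_one (by rw [pow_two, hsq])))
      have hcg : gb * zb = zb * gb := by
        have e1 : eb = zb := by
          rw [eq_inv_of_mul_eq_one_left h1, inv_eq_of_mul_eq_one_right]
          rw [← pow_two, ← hzbo, pow_orderOf_eq_one]
        exact mul_inv_eq_iff_eq_mul.1 e1
      exact N.hne (hcomm ⟨g, hgM⟩ hcg)
    · obtain ⟨e0⟩ := hiso
      have hcc : Nat.card (centralizer ({zb} : Set (M ⧸ Wn))) = 40320 := by
        rw [← Nat.card_congr (MulEquiv.ofBijective ι hι).toEquiv, S.card]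
      refine no_odd_transitive e0 hcc ((D.subgroupOf M).map q) ?_ fun y => ?_
      · refine hDodd.of_dvd_nat ?_
        rw [← Nat.card_congr (subgroupOfEquivOfLe (inf_le_left : D ≤ M)).toEquiv]
        exact card_map_dvd (H := D.subgroupOf M) q
      · obtain ⟨m, rfl⟩ := QuotientGroup.mk'_surjective Wn y
        obtain ⟨d, hd, hde⟩ := Invol.se_transitive hse hu huM S.zo hzM
          (t := (m : G) * C.s * (m : G)⁻¹) (by rw [Invol.orderOf_conj_eq, S.zo])
          (mul_mem (mul_mem m.2 hzM) (inv_mem m.2))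
        refine ⟨q ⟨d, hd.1⟩, ⟨⟨d, hd.1⟩, mem_subgroupOf.2 hd, rfl⟩, ?_⟩
        rw [hzb, ← map_inv, ← map_inv, ← map_mul, ← map_mul, ← map_mul, ← map_mul]
        exact congrArg q (Subtype.ext hde.symm)
  refine hcov0 ?_
  -- the cover is non-split
  refine ⟨?_, ?_, ?_⟩
  · have hc : center L = zpowers C.s := by
      refine le_antisymm (fun x hx => ?_) (zpowers_le.2 (mem_center_iff.2 C.comm))
      rcases S.cent x hx with e | e <;> rw [e]
      exacts [one_mem _, mem_zpowers _]
    rw [hc, Nat.card_zpowers]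
    exact orderOf_eq_prime (by rw [pow_two, C.ss]) C.s1
  · let f : L →* alternatingGroup (Fin 8) := C.p.codRestrict _ fun l => mem_alternatingGroup.2 (C.sign_eq l)
    have hf : Function.Surjective f := fun σ => by
      obtain ⟨l, hl⟩ := C.surj σ (mem_alternatingGroup.1 σ.2)
      exact ⟨l, Subtype.ext hl⟩
    refine ⟨(QuotientGroup.quotientMulEquivOfEq ?_).trans (QuotientGroup.quotientKerEquivOfSurjective f hf)⟩
    ext x
    constructor
    · intro hx
      refine MonoidHom.mem_ker.2 (Subtype.ext ?_)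
      show C.p x = 1
      rcases S.cent x hx with e | e <;> rw [e]
      exacts [map_one _, C.ps]
    · intro hx
      rcases C.ker x (congrArg Subtype.val (MonoidHom.mem_ker.1 hx)) with e | e <;> rw [e]
      exacts [one_mem _, mem_center_iff.2 C.comm]
  · intro H hH
    have hle : commutator ↥L ≤ H := by
      rw [commutator_def, commutator_le]
      intro a _ b _
      obtain ⟨⟨⟨a1, ha1⟩, ⟨a2, ha2⟩⟩, rfl⟩ := hH.2 a
      obtain ⟨⟨⟨b1, hb1⟩, ⟨b2, hb2⟩⟩, rfl⟩ := hH.2 b
      have e : ⁅a1 * a2, b1 * b2⁆ = ⁅a2, b2⁆ := by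
        simp only [commutatorElement_def, mul_inv_rev]
        calc a1 * a2 * (b1 * b2) * (a2⁻¹ * a1⁻¹) * (b2⁻¹ * b1⁻¹)
            = a1 * ((a2 * b1) * b2 * a2⁻¹) * a1⁻¹ * (b2⁻¹ * b1⁻¹) := by group
          _ = (a2 * b1) * b2 * a2⁻¹ * (a1 * a1⁻¹) * (b2⁻¹ * b1⁻¹) := by
            rw [← mem_center_iff.1 ha1 ((a2 * b1) * b2 * a2⁻¹)]; group
          _ = b1 * (a2 * b2 * a2⁻¹ * b2⁻¹) * b1⁻¹ := by rw [mem_center_iff.1 hb1 a2]; group
          _ = a2 * b2 * a2⁻¹ * b2⁻¹ := by rw [← mem_center_iff.1 hb1, mul_inv_cancel_right]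
      show ⁅a1 * a2, b1 * b2⁆ ∈ H
      rw [e, commutatorElement_def]
      exact mul_mem (mul_mem (mul_mem ha2 hb2) (inv_mem ha2)) (inv_mem hb2)
    rw [S.perfect, top_le_iff] at hle
    have hbot := hH.disjoint.eq_bot
    rw [hle, inf_top_eq] at hbot
    exact C.s1 (mem_bot.1 (hbot ▸ mem_center_iff.2 C.comm))

end Sit

end Cfsg.Lib.StdMcl
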