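import Cfsg.Agent.Lib.StdMcl.Setup
import Cfsg.Agent.Lib.Invol.Cyclic
import Cfsg.Agent.S0111
import Cfsg.Agent.S1241

/-!
# The fusion of the involutions and the structure of the centralizer
-/

set_option autoImplicit false
set_option linter.style.haveILetI false
set_option linter.unusedSectionVars false
set_option maxRecDepth 20000

namespace Cfsg.Lib.StdMcl

open Equiv Equiv.Perm Subgroup Cfsg.Lib.CoverAlt

variable {G : Type*} [Group G] {L : Subgroup G} {C : Cov L 8}

theorem sign_conj (τ u : S8) : Perm.sign (τ * u * τ⁻¹) = Perm.sign u := by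
  rw [map_mul, map_mul, map_inv, mul_right_comm, mul_inv_cancel, one_mul]

theorem fpf_conj {a : S8} (ha : a * a = 1) (hf : ∀ p, a p ≠ p) : ∃ τ : S8, τ * a0 * τ⁻¹ = a := by
  obtain ⟨b, hb, hc⟩ := involution_rep ha (fun e => hf 0 (by rw [e, Perm.one_apply]))
  obtain ⟨τ, hτ⟩ := isConj_iff.1 hc
  refine ⟨τ, ?_⟩
  simp only [List.mem_cons, List.not_mem_nil, or_false] at hb
  rcases hb with rfl | rfl | rfl | rfl
  · exact absurd (show a (τ 7) = τ 7 by rw [← hτ]; simp [Equiv.swap_apply_def]) (hf _)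
  · exact absurd (show a (τ 7) = τ 7 by rw [← hτ]; simp [Equiv.swap_apply_def]) (hf _)
  · exact absurd (show a (τ 7) = τ 7 by rw [← hτ]; simp [Equiv.swap_apply_def]) (hf _)
  · exact hτ

/-- Lifts of a fixed-point-free involution do not commute with all lifts of its centralizer. -/
theorem exists_anti (C : Cov L 8) {l : L} (hl : C.p l * C.p l = 1) (hf : ∀ p, C.p l p ≠ p) :
    ∃ q : L, Commute (C.p q) (C.p l) ∧ q * l = l * q * C.s := by
  obtain ⟨τ, hτ⟩ := fpf_conj hl hf
  have hd : ∀ a b c d : Fin 8, a ≠ b → c ≠ d → a ≠ c → a ≠ d → b ≠ c → b ≠ d →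
      IsDT (τ * (swap a b * swap c d) * τ⁻¹) := fun a b c d h1 h2 h3 h4 h5 h6 =>
    conj_isDT τ ⟨a, b, c, d, h1, h2, h3, h4, h5, h6, rfl⟩
  have dA := hd 0 1 2 3 (by decide) (by decide) (by decide) (by decide) (by decide) (by decide)
  have dB := hd 4 5 6 7 (by decide) (by decide) (by decide) (by decide) (by decide) (by decide)
  have dQ := hd 0 2 1 3 (by decide) (by decide) (by decide) (by decide) (by decide) (by decide)
  have dAQ := hd 0 3 1 2 (by decide) (by decide) (by decide) (by decide) (by decide) (by decide)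
  have key : (swap 0 2 * swap 1 3 : S8) * (swap 0 1 * swap 2 3) = swap 0 3 * swap 1 2 ∧
      (swap 0 1 * swap 2 3 : S8) * (swap 4 5 * swap 6 7) = a0 ∧
      a0 * (swap 0 2 * swap 1 3) = swap 0 2 * swap 1 3 * a0 := by decide +kernel
  obtain ⟨k1, k2, k3⟩ := key
  obtain ⟨A, hA⟩ := C.surj _ (sign_dt dA)
  obtain ⟨B, hB⟩ := C.surj _ (sign_dt dB)
  obtain ⟨q, hq⟩ := C.surj _ (sign_dt dQ)
  refine ⟨q, ?_, ?_⟩
  · rw [hq, ← hτ]; exact commute_conj τ k3.symm
  have h1 : q * A = A * q * C.s := C.anticomm (hq ▸ dQ) (hA ▸ dA) (by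
    rw [hq, hA]
    rw [show τ * (swap 0 2 * swap 1 3) * τ⁻¹ * (τ * (swap 0 1 * swap 2 3) * τ⁻¹) =
      τ * (swap 0 2 * swap 1 3 * (swap 0 1 * swap 2 3)) * τ⁻¹ by group, k1]
    exact dAQ)
  have h2 : Commute B q := by
    have e : τ * (swap 4 5 * swap 6 7) * τ⁻¹ = swap (τ 4) (τ 5) * swap (τ 6) (τ 7) := by
      rw [swap_apply_apply, swap_apply_apply]; group
    have hfix : ∀ i : Fin 8, (i = 4 ∨ i = 5 ∨ i = 6 ∨ i = 7) → C.p q (τ i) = τ i := fun i hi => by
      rw [hq]
      rcases hi with rfl | rfl | rfl | rfl <;> simp [Equiv.swap_apply_def]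
    exact C.comm_of_fix (τ.injective.ne (by decide)) (τ.injective.ne (by decide)) (τ.injective.ne (by decide))
      (τ.injective.ne (by decide)) (τ.injective.ne (by decide)) (τ.injective.ne (by decide)) (hB.trans e)
      (hfix 4 (by simp)) (hfix 5 (by simp)) (hfix 6 (by simp)) (hfix 7 (by simp))
  have h3 : q * (A * B) = A * B * q * C.s := by
    calc q * (A * B) = A * q * C.s * B := by rw [← mul_assoc, h1]
      _ = A * q * (B * C.s) := by rw [mul_assoc _ C.s, ← C.comm B]
      _ = A * (q * B) * C.s := by group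
      _ = _ := by rw [← h2.eq]; group
  have e : C.p l = C.p (A * B) := by rw [map_mul, hA, hB, ← hτ, ← k2]; group
  rcases C.eq_or_eq e with e | e <;> rw [e]
  · exact h3
  · calc q * (A * B * C.s) = A * B * q * C.s * C.s := by rw [← mul_assoc, h3]
      _ = A * B * (q * C.s) * C.s := by group
      _ = A * B * (C.s * q) * C.s := by rw [C.comm q]
      _ = _ := by group

/-- An involution of the cover other than the central one has an image moving all points. -/
theorem inv_fpf (C : Cov L 8) {l : L} (hl : l * l = 1) (h1 : l ≠ 1) (hs : l ≠ C.s) : ∀ p, C.p l p ≠ p := by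
  have hd := C.dvd_card_support hl
  have hne : (C.p l).support.card ≠ 0 := fun e => by
    rcases C.ker l (support_eq_empty_iff.1 (Finset.card_eq_zero.1 e)) with h | h
    exacts [h1 h, hs h]
  have hle : (C.p l).support.card ≤ 8 := (Finset.card_le_univ _).trans (by simp)
  have h8 : (C.p l).support.card = Fintype.card (Fin 8) := by
    rw [Fintype.card_fin]
    exact le_antisymm hle (Nat.le_of_dvd (Nat.pos_of_ne_zero hne) hd)
  intro p
  exact Perm.mem_support.1 (Finset.eq_univ_iff_forall.1 (Finset.card_eq_iff_eq_univ _ |>.1 h8) p)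

/-- Two involutions of the cover other than the central one are conjugate in it. -/
theorem inv_conj (C : Cov L 8) {l l' : L} (hl : l * l = 1) (hf : ∀ p, C.p l p ≠ p) (hl' : l' * l' = 1)
    (hf' : ∀ p, C.p l' p ≠ p) : ∃ c : L, c * l * c⁻¹ = l' := by
  have hp : ∀ x : L, x * x = 1 → C.p x * C.p x = 1 := fun x hx => by rw [← map_mul, hx, map_one]
  obtain ⟨τ, hτ⟩ := fpf_conj (hp l hl) hf
  obtain ⟨τ', hτ'⟩ := fpf_conj (hp l' hl') hf'
  have hρ : ∀ ρ : S8, Perm.sign ρ = 1 → ρ * C.p l * ρ⁻¹ = C.p l' → ∃ c : L, c * l * c⁻¹ = l' := by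
    intro ρ hs e
    obtain ⟨c, rfl⟩ := C.surj ρ hs
    rcases C.eq_or_eq (x := c * l * c⁻¹) (y := l') (by rw [map_mul, map_mul, map_inv, e]) with h | h
    · exact ⟨c, h⟩
    · obtain ⟨q, -, hq⟩ := exists_anti C (hp l' hl') hf'
      refine ⟨q * c, ?_⟩
      calc q * c * l * (q * c)⁻¹ = q * (c * l * c⁻¹) * q⁻¹ := by group
        _ = (q * l') * (C.s * q⁻¹) := by rw [h]; group
        _ = (l' * q * C.s) * (C.s * q⁻¹) := by rw [hq]
        _ = l' * q * (C.s * C.s) * q⁻¹ := by group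
        _ = l' := by rw [C.ss]; group
  rcases Int.units_eq_one_or (Perm.sign (τ' * τ⁻¹)) with hs | hs
  · exact hρ _ hs (by rw [← hτ, ← hτ']; group)
  · refine hρ (τ' * swap 0 1 * τ⁻¹) ?_ ?_
    · rw [map_mul, map_mul, map_inv, mul_right_comm, ← map_inv, ← map_mul, hs, sign_swap (by decide)]; rfl
    · have key : swap 0 1 * a0 * swap 0 1 = a0 := by decide +kernel
      rw [← hτ, ← hτ', ← key]
      calc τ' * swap 0 1 * τ⁻¹ * (τ * (swap 0 1 * a0 * swap 0 1) * τ⁻¹) * (τ' * swap 0 1 * τ⁻¹)⁻¹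
          = τ' * (swap 0 1 * swap 0 1) * a0 * (swap 0 1 * (swap 0 1)⁻¹) * τ'⁻¹ := by group
        _ = τ' * a0 * τ'⁻¹ := by rw [swap_mul_self]; group
        _ = _ := by rw [key]

/-- An even involution of the cover outside the centre centralizes no Sylow two-subgroup. -/
theorem not_sylow_central (hcard : Nat.card L = 40320) {l : L} (hl : l * l = 1) (hf : ∀ p, C.p l p ≠ p)
    {P : Subgroup L} (hP : 2 ^ 7 ∣ Nat.card P) (hc : ∀ x ∈ P, x * l = l * x) : False := by
  haveI : Finite L := Nat.finite_of_card_ne_zero (by rw [hcard]; norm_num)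
  obtain ⟨q, hqU, hq⟩ := exists_anti C (by rw [← map_mul, hl, map_one]) hf
  let U := (centralizer ({C.p l} : Set S8)).comap C.p
  have hPU : P ≤ U := fun x hx => mem_comap.2 (mem_centralizer_singleton_iff.2 (by
    rw [← map_mul, ← map_mul, hc x hx]))
  let V : Subgroup U := (centralizer ({l} : Set L)).subgroupOf U
  have hidx : V.index = 2 := by
    refine index_eq_two_iff.2 ⟨⟨q, mem_comap.2 (mem_centralizer_singleton_iff.2 hqU.eq)⟩, fun b => ?_⟩
    have hb : (b : L) * l = l * b ∨ (b : L) * l = l * b * C.s :=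
      C.eq_or_eq (by rw [map_mul, map_mul]; exact mem_centralizer_singleton_iff.1 (mem_comap.1 b.2))
    have hne : l * (q * C.s) ≠ l * q := fun e => C.mul_s_ne q (mul_left_cancel e)
    simp only [V, mem_subgroupOf, mem_centralizer_singleton_iff, Subgroup.coe_mul]
    have e1 : (b : L) * q * l = (b : L) * l * (q * C.s) := by rw [mul_assoc, hq]; group
    rw [e1]
    rcases hb with e | e <;> rw [e]
    · refine Or.inr ⟨rfl, fun h => hne ?_⟩
      refine mul_left_cancel (a := l * b * l⁻¹) ?_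
      calc l * b * l⁻¹ * (l * (q * C.s)) = l * b * (q * C.s) := by group
        _ = l * (b * q) := h
        _ = b * (l * q) := by rw [← mul_assoc, ← e, mul_assoc]
        _ = _ := by rw [← e]; group
    · refine Or.inl ⟨?_, fun h => C.mul_s_ne (l * b) h⟩
      calc l * b * C.s * (q * C.s) = l * b * (C.s * q) * C.s := by group
        _ = l * b * (q * C.s) * C.s := by rw [C.comm q]
        _ = l * (b * q) * (C.s * C.s) := by group
        _ = _ := by rw [C.ss, mul_one]
  have h7 : 2 ^ 7 ∣ Nat.card V := by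
    refine hP.trans ?_
    rw [← Nat.card_congr (subgroupOfEquivOfLe hPU).toEquiv]
    exact card_dvd_of_le fun x hx => mem_subgroupOf.2 (mem_centralizer_singleton_iff.2 (hc x hx))
  have h8 : 2 ^ 8 ∣ 40320 := by
    rw [← hcard]
    refine (dvd_trans ?_ U.card_subgroup_dvd_card)
    rw [← V.card_mul_index, hidx, pow_succ]
    exact mul_dvd_mul_right h7 2
  norm_num at h8

/-- An odd involution of eight points centralizes no group of order sixty-four. -/
theorem odd_not_central {b : S8} (hb : b * b = 1) (hs : Perm.sign b = -1) {P : Subgroup S8}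
    (hP : 64 ∣ Nat.card P) (hc : ∀ x ∈ P, x * b = b * x) : False := by
  obtain ⟨c, hc', hconj⟩ := involution_rep hb (fun e => by rw [e, map_one] at hs; exact absurd hs (by decide))
  have hcs : Perm.sign c = -1 := by
    obtain ⟨τ, rfl⟩ := isConj_iff.1 hconj
    rwa [sign_conj] at hs
  have hle : P ≤ centralizer ({b} : Set S8) := fun x hx => mem_centralizer_singleton_iff.2 (hc x hx)
  have h64 := hP.trans (card_dvd_of_le hle)
  rw [Perm.nat_card_centralizer, ← isConj_iff_cycleType_eq.1 hconj, ← Perm.nat_card_centralizer] at h64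
  have key : (swap 0 1 : S8).cycleType = {2} ∧ (swap 0 1 * swap 2 3 * swap 4 5 : S8).cycleType = {2, 2, 2} := by
    decide +kernel
  simp only [List.mem_cons, List.not_mem_nil, or_false] at hc'
  rcases hc' with rfl | rfl | rfl | rfl
  · rw [Perm.nat_card_centralizer, key.1] at h64; simp [Nat.factorial] at h64
  · exact absurd hcs (by decide +kernel)
  · rw [Perm.nat_card_centralizer, key.2] at h64; simp [Nat.factorial] at h64
  · exact absurd hcs (by decide +kernel)

/-- Elements of odd order centralizing a fixed-point-free involution have order dividing three. -/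
theorem cube_of_odd {a y : S8} (ha : a * a = 1) (hf : ∀ p, a p ≠ p) (hay : Commute a y) {n : ℕ} (hn : Odd n)
    (hy : y ^ n = 1) : y ^ 3 = 1 := by
  have hd : orderOf y ∣ Nat.card (centralizer ({a} : Set S8)) :=
    Subgroup.orderOf_dvd_natCard _ (mem_centralizer_singleton_iff.2 hay.eq.symm)
  obtain ⟨τ, hτ⟩ := fpf_conj ha hf
  have hct : a.cycleType = {2, 2, 2, 2} := by
    rw [← hτ, cycleType_conj]; decide +kernel
  rw [Perm.nat_card_centralizer, hct] at hd
  have hd' : orderOf y ∣ 384 := by simpa [Nat.factorial] using hd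
  refine orderOf_dvd_iff_pow_eq_one.1 ?_
  have ho : Odd (orderOf y) := hn.of_dvd_nat (orderOf_dvd_of_pow_eq_one hy)
  exact ((Nat.coprime_two_right.2 ho).pow_right 7).dvd_of_dvd_mul_left hd'

namespace Sit

variable [Finite G] {g : G} (S : Sit C)

include S

/-- The odd part of the centralizer of the cover. -/
theorem exists_core (N : ∃ g, Nb C g) : ∃ W : Subgroup G, W ≤ centralizer (L : Set G) ∧ Odd (Nat.card W) ∧
    (∀ k ∈ centralizer (L : Set G), k ∈ W ∨ k * C.s ∈ W) ∧
    ∀ k ∈ centralizer (L : Set G), ∀ n : ℕ, Odd n → k ^ n = 1 → k ∈ W := by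
  classical
  haveI : Fact (Nat.Prime 2) := ⟨Nat.prime_two⟩
  set K := centralizer (L : Set G) with hK
  obtain ⟨R⟩ := (inferInstance : Nonempty (Sylow 2 K))
  obtain ⟨g, hg⟩ := N
  have hR : ∀ r : (R : Subgroup K), ((r : K) : G) = 1 ∨ ((r : K) : G) = C.s := fun r => by
    obtain ⟨n, hn⟩ := R.2 r
    refine S.two_elt_K hg (r : K).2 (n := n) ?_
    simpa using congrArg (fun x : (R : Subgroup K) => ((x : K) : G)) hn
  have hcard : Nat.card (R : Subgroup K) ≤ 2 := by
    let f : ↥(R : Subgroup K) → Bool := fun r => decide (((r : K) : G) = 1)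
    refine (Nat.card_le_card_of_injective f fun a b e => Subtype.ext (Subtype.ext ?_)).trans (by simp)
    simp only [f, decide_eq_decide] at e
    rcases hR a with h | h
    · rw [h, e.1 h]
    · rcases hR b with h' | h'
      · exact absurd (h ▸ e.2 h') S.z1
      · rw [h, h']
  have heven : Even (Nat.card K) := by
    rw [even_iff_two_dvd, ← S.zo]; exact Subgroup.orderOf_dvd_natCard _ S.zK
  have hcyc : IsCyclic (R : Subgroup K) := by
    rcases (show Nat.card (R : Subgroup K) = 1 ∨ Nat.card (R : Subgroup K) = 2 by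
      have := (Nat.card_pos (α := (R : Subgroup K))); omega) with h | h
    · haveI := (Nat.card_eq_one_iff_unique.1 h).1
      exact isCyclic_of_subsingleton
    · exact isCyclic_of_prime_card (p := 2) h
  obtain ⟨H, hH⟩ := Invol.exists_index_two_of_isCyclic heven R hcyc
  have hodd : Odd (Nat.card H) := by
    rw [← Nat.not_even_iff_odd, even_iff_two_dvd]
    intro h
    have h1 : 2 * 2 ∣ Nat.card K := by rw [← H.card_mul_index, hH]; exact mul_dvd_mul_right h 2
    obtain ⟨j, hj⟩ := R.2.exists_card_eq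
    have h4 : 2 ^ 2 ∣ Nat.card (R : Subgroup K) :=
      R.card_eq_multiplicity ▸ pow_dvd_pow 2 ((Nat.prime_two.pow_dvd_iff_le_factorization Nat.card_pos.ne').1 h1)
    have := Nat.le_of_dvd Nat.card_pos h4
    omega
  have hzH : (⟨C.s, S.zK⟩ : K) ∉ H := fun h => by
    have := Subgroup.orderOf_dvd_natCard H h
    rw [Subgroup.orderOf_mk, S.zo] at this
    exact Nat.not_even_iff_odd.2 hodd (even_iff_two_dvd.2 this)
  refine ⟨H.map K.subtype, map_subtype_le _, by rwa [card_map_of_injective K.subtype_injective],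
    fun k hk => ?_, fun k hk n hn h1 => ?_⟩
  · by_cases h : (⟨k, hk⟩ : K) ∈ H
    · exact Or.inl ⟨_, h, rfl⟩
    · exact Or.inr ⟨⟨k, hk⟩ * ⟨C.s, S.zK⟩, (mul_mem_iff_of_index_two hH).2 (iff_of_false h hzH), rfl⟩
  · refine ⟨⟨k, hk⟩, ?_, rfl⟩
    obtain ⟨j, rfl⟩ := hn
    have h2 : (⟨k, hk⟩ : K) ^ (2 * j) ∈ H := by rw [pow_mul]; exact pow_mem (sq_mem_of_index_two hH _) j
    have h3 : (⟨k, hk⟩ : K) ^ (2 * j + 1) = 1 := Subtype.ext (by simpa using h1)
    rw [pow_succ] at h3
    rw [eq_inv_of_mul_eq_one_right h3]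
    exact inv_mem h2

/-- A two-element inducing an even permutation lies in the cover. -/
theorem two_elt_even (N : Nb C g) {m : G} (hm : m * C.s = C.s * m) (hs : Perm.sign (pi C m) = 1) {n : ℕ}
    (hn : m ^ 2 ^ n = 1) : m ∈ L := by
  obtain ⟨l, k, hk, rfl⟩ := S.split hm hs
  rw [(show Commute (l : G) k from S.kl hk l).mul_pow] at hn
  have hk2 : k ^ 2 ^ (n + 1) = 1 := by
    have hll : ((l ^ 2 ^ n : L) : G) ∈ centralizer (L : Set G) := by
      rw [Subgroup.coe_pow, eq_inv_of_mul_eq_one_left hn]; exact inv_mem (pow_mem hk _)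
    rw [pow_succ, pow_mul, pow_two]
    rcases S.inter hll with h | h <;> have h' := congrArg Subtype.val h <;>
      rw [Subgroup.coe_pow] at h' <;> rw [h'] at hn
    · rw [Subgroup.coe_one, one_mul] at hn; rw [hn, one_mul]
    · rw [eq_inv_of_mul_eq_one_right hn, inv_eq_of_mul_eq_one_right S.z2, S.z2]
  rcases S.two_elt_K N hk hk2 with rfl | rfl
  · rw [mul_one]; exact l.2
  · exact mul_mem l.2 C.s.2

/-- An involution of the cover is conjugate to the central one. -/
theorem inv_L_conj (N : Nb C g) {x : L} (hx : x * x = 1) (h1 : x ≠ 1) : ∃ h : G, h * C.s * h⁻¹ = x := by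
  by_cases hs : x = C.s
  · exact ⟨1, by rw [hs]; group⟩
  obtain ⟨l, hl, hf⟩ := S.nb_mem N
  have hll : l * l = 1 := Subtype.ext (by rw [Subgroup.coe_mul, hl, S.nb_sq, Subgroup.coe_one])
  obtain ⟨c, hc⟩ := inv_conj C hll hf hx (inv_fpf C hx h1 hs)
  refine ⟨c * g, ?_⟩
  rw [← hc]
  push_cast
  rw [hl]; group

theorem sign_nb {h : G} (hh : h * C.s * h⁻¹ * C.s = C.s * (h * C.s * h⁻¹)) :
    Perm.sign (pi C (h * C.s * h⁻¹)) = 1 := by
  by_cases hc : h * C.s = C.s * h
  · rw [hc, mul_inv_cancel_right, S.pi_K S.zK, map_one]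
  · obtain ⟨l, hl, -⟩ := S.nb_mem (g := h) ⟨hh, hc⟩
    rw [← hl, S.pi_L, C.sign_eq]

theorem sign_mul' {m n : G} (hm : m * C.s = C.s * m) (hn : n * C.s = C.s * n) :
    Perm.sign (pi C (m * n)) = Perm.sign (pi C m) * Perm.sign (pi C n) := by
  rw [S.pi_mul hm hn, map_mul]

theorem sign_conj' {a m : G} (ha : a * C.s = C.s * a) (hm : m * C.s = C.s * m) :
    Perm.sign (pi C (a * m * a⁻¹)) = Perm.sign (pi C m) := by
  rw [S.pi_mul (Commute.mul_left ha hm).eq (Commute.inv_left ha).eq, S.pi_mul ha hm, S.pi_inv ha, sign_conj]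

/-- A Sylow two-subgroup of the centralizer of the central involution is one of the group. -/
theorem exists_sylow (N : Nb C g) : ∃ P : Sylow 2 G, ∀ x ∈ (P : Subgroup G), x * C.s = C.s * x := by
  classical
  haveI : Fact (Nat.Prime 2) := ⟨Nat.prime_two⟩
  set M := centralizer ({(C.s : G)} : Set G) with hM
  obtain ⟨R⟩ := (inferInstance : Nonempty (Sylow 2 M))
  obtain ⟨P, hP⟩ := (R.2.map M.subtype).exists_le_sylow
  refine ⟨P, ?_⟩
  have hzR : (⟨C.s, mem_centralizer_singleton_iff.2 rfl⟩ : M) ∈ (R : Subgroup M) := by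
    set zM : M := ⟨C.s, mem_centralizer_singleton_iff.2 rfl⟩ with hzM
    have hc : ∀ y : M, y * zM = zM * y := fun y => Subtype.ext (mem_centralizer_singleton_iff.1 y.2)
    haveI : (zpowers zM).Normal := ⟨fun a ha b => by
      obtain ⟨j, rfl⟩ := mem_zpowers_iff.1 ha
      rw [(Commute.zpow_right (hc b) j).eq, mul_inv_cancel_right]
      exact zpow_mem (mem_zpowers zM) j⟩
    have hp : IsPGroup 2 (zpowers zM) := IsPGroup.of_card (n := 1) (by
      rw [Nat.card_zpowers, pow_one, hzM, Subgroup.orderOf_mk, S.zo])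
    have := hp.le_sylow_of_normal R
    exact this (mem_zpowers zM)
  have hzP : (C.s : G) ∈ (P : Subgroup G) := hP ⟨_, hzR, rfl⟩
  haveI : Nontrivial (P : Subgroup G) := ⟨⟨⟨C.s, hzP⟩, 1, fun e => S.z1 (congrArg Subtype.val e)⟩⟩
  have hne := P.2.center_nontrivial
  obtain ⟨c, hc⟩ := exists_prime_orderOf_dvd_card' (G := center (P : Subgroup G)) 2 (by
    obtain ⟨n, hn⟩ := (P.2.to_subgroup (center (P : Subgroup G))).exists_card_eq
    rw [hn]
    rcases n with _ | n
    · haveI := (Nat.card_eq_one_iff_unique.1 hn).1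
      exact absurd hne (not_nontrivial_iff_subsingleton.2 this)
    · exact dvd_pow_self 2 n.succ_ne_zero)
  set v : G := ((c : (P : Subgroup G)) : G) with hv
  have hcv : ∀ x ∈ (P : Subgroup G), x * v = v * x := fun x hx =>
    congrArg Subtype.val (mem_center_iff.1 c.2 ⟨x, hx⟩)
  have hvo : orderOf v = 2 := by rw [hv, Subgroup.orderOf_coe, Subgroup.orderOf_coe, hc]
  have hvv : v * v = 1 := by rw [← pow_two, ← hvo, pow_orderOf_eq_one]
  have hvz : v * C.s = C.s * v := (hcv _ hzP).symm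
  by_cases hvs : v = C.s
  · exact hvs ▸ hcv
  exfalso
  -- the intersection with the cover has full two-part
  set Q := (R : Subgroup M).map M.subtype with hQ
  have hLM : L ≤ M := fun x hx => mem_centralizer_singleton_iff.2 (S.lz ⟨x, hx⟩)
  haveI : (L.subgroupOf M).Normal := ⟨fun x hx m => mem_subgroupOf.2
    ((mem_normalizer_iff.1 (S.norm m (mem_centralizer_singleton_iff.1 m.2)) x).1 (mem_subgroupOf.1 hx))⟩
  have h128 : 2 ^ 7 ∣ Nat.card ↥(Q.subgroupOf L) := by
    have hrel : ¬ 2 ∣ ((R : Subgroup M).subgroupOf (L.subgroupOf M)).index := by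
      refine fun h => R.not_dvd_index (h.trans ?_)
      show (R : Subgroup M).relIndex (L.subgroupOf M) ∣ _
      have e1 := relIndex_mul_relIndex ((R : Subgroup M) ⊓ L.subgroupOf M) (R : Subgroup M)
        ((R : Subgroup M) ⊔ L.subgroupOf M) inf_le_left le_sup_left
      have e2 := relIndex_mul_relIndex ((R : Subgroup M) ⊓ L.subgroupOf M) (L.subgroupOf M)
        ((R : Subgroup M) ⊔ L.subgroupOf M) inf_le_right le_sup_right
      rw [inf_relIndex_left] at e1
      rw [inf_relIndex_right, relIndex_sup_right (R : Subgroup M) (L.subgroupOf M), ← e1, mul_comm] at e2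
      rw [Nat.eq_of_mul_eq_mul_left (Nat.pos_of_ne_zero index_ne_zero_of_finite) e2]
      exact Dvd.intro _ (relIndex_mul_index le_sup_left)
    have h1 := ((R : Subgroup M).subgroupOf (L.subgroupOf M)).card_mul_index
    rw [Nat.card_congr (subgroupOfEquivOfLe hLM).toEquiv, S.card, show 40320 = 2 ^ 7 * 315 by norm_num] at h1
    have h2 : 2 ^ 7 ∣ Nat.card ((R : Subgroup M).subgroupOf (L.subgroupOf M)) :=
      (((Nat.prime_two.coprime_iff_not_dvd.2 hrel).pow_left 7)).dvd_of_dvd_mul_right (h1 ▸ dvd_mul_right _ _)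
    refine h2.trans (dvd_of_eq (Nat.card_congr
      { toFun := fun x => ⟨⟨((x : L.subgroupOf M) : M), mem_subgroupOf.1 (x : L.subgroupOf M).2⟩,
          mem_subgroupOf.2 ⟨_, mem_subgroupOf.1 x.2, rfl⟩⟩
        invFun := fun x => ⟨⟨⟨(x : L), hLM (x : L).2⟩, mem_subgroupOf.2 (x : L).2⟩, by
          obtain ⟨r, hr, e⟩ := mem_subgroupOf.1 x.2
          refine mem_subgroupOf.2 (?_ : _ ∈ (R : Subgroup M))
          have e' : (⟨((x : L) : G), hLM (x : L).2⟩ : M) = r := Subtype.ext e.symm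
          exact e'.symm ▸ hr⟩
        left_inv := fun x => rfl
        right_inv := fun x => rfl }))
  have hQc : ∀ x ∈ Q.subgroupOf L, (x : G) * v = v * x := fun x hx => hcv _ (hP (mem_subgroupOf.1 hx))
  rcases Int.units_eq_one_or (Perm.sign (pi C v)) with hs | hs
  · have hvL := S.two_elt_even N hvz hs (n := 1) (by rw [pow_one, pow_two, hvv])
    have hv2 : (⟨v, hvL⟩ : L) * ⟨v, hvL⟩ = 1 := Subtype.ext hvv
    refine not_sylow_central S.card hv2 (inv_fpf C hv2 (fun e => ?_) fun e => hvs (congrArg Subtype.val e)) h128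
      fun x hx => Subtype.ext (hQc x hx)
    have : v = 1 := congrArg Subtype.val e
    rw [this, orderOf_one] at hvo; norm_num at hvo
  · refine odd_not_central (b := pi C v) (by rw [← S.pi_mul hvz hvz, hvv, S.pi_one]) hs
      (P := (Q.subgroupOf L).map C.p) ?_ ?_
    · have hk : Nat.card (C.p.comp (Q.subgroupOf L).subtype).ker ∣ 2 := by
        have hle : Nat.card (C.p.comp (Q.subgroupOf L).subtype).ker ≤ 2 := by
          let f : (C.p.comp (Q.subgroupOf L).subtype).ker → Bool := fun x => decide (((x : Q.subgroupOf L) : L) = 1)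
          refine (Nat.card_le_card_of_injective f fun a b e => ?_).trans (by simp)
          simp only [f, decide_eq_decide] at e
          refine Subtype.ext (Subtype.ext ?_)
          rcases C.ker _ (MonoidHom.mem_ker.1 a.2) with ha | ha
          · exact ha.trans (e.1 ha).symm
          · rcases C.ker _ (MonoidHom.mem_ker.1 b.2) with hb | hb
            · exact (e.2 hb).trans hb.symm
            · exact ha.trans hb.symm
        have h0 : 0 < Nat.card (C.p.comp (Q.subgroupOf L).subtype).ker := Nat.card_pos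
        interval_cases (Nat.card (C.p.comp (Q.subgroupOf L).subtype).ker) <;> norm_num
      have h1 := (C.p.comp (Q.subgroupOf L).subtype).ker.card_mul_index
      rw [index_ker, MonoidHom.range_comp, Subgroup.range_subtype] at h1
      exact Nat.dvd_of_mul_dvd_mul_left (show 0 < 2 by norm_num)
        (((h1 ▸ h128 : (2 : ℕ) * 64 ∣ _)).trans (mul_dvd_mul_right hk _))
    · rintro _ ⟨x, hx, rfl⟩
      rw [← S.pi_L x]
      exact (S.pi_commute (S.lz x) hvz (hQc x hx)).eq

/-- Every element centralizing the central involution induces an even permutation. -/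
theorem even_of_simple [IsSimpleGroup G] (hG : ¬ IsMulCommutative G) (N : Nb C g) {m : G}
    (hm : m * C.s = C.s * m) : Perm.sign (pi C m) = 1 := by
  classical
  haveI : Fact (Nat.Prime 2) := ⟨Nat.prime_two⟩
  rcases Int.units_eq_one_or (Perm.sign (pi C m)) with hs | hs
  · exact hs
  exfalso
  obtain ⟨P, hP⟩ := S.exists_sylow N
  obtain ⟨W, hWK, hWodd, hW, hWmem⟩ := S.exists_core ⟨g, N⟩
  -- the subgroup of the even elements of the Sylow subgroup
  let Q : Subgroup G :=
    { carrier := {x | x ∈ (P : Subgroup G) ∧ Perm.sign (pi C x) = 1}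
      one_mem' := ⟨one_mem _, by rw [S.pi_one, map_one]⟩
      mul_mem' := fun {x y} hx hy => ⟨mul_mem hx.1 hy.1, by
        rw [S.sign_mul' (hP x hx.1) (hP y hy.1), hx.2, hy.2, one_mul]⟩
      inv_mem' := fun {x} hx => ⟨inv_mem hx.1, by rw [S.pi_inv (hP x hx.1), map_inv, hx.2, inv_one]⟩ }
  have hQP : Q ≤ (P : Subgroup G) := fun x hx => hx.1
  -- an odd element of square central in the Sylow subgroup
  obtain ⟨l, hl⟩ := C.surj (swap 0 1 * (pi C m)⁻¹) (by
    rw [map_mul, map_inv, hs, sign_swap (by decide)]; rfl)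
  have hm1 : (l : G) * m * C.s = C.s * ((l : G) * m) := (Commute.mul_left (S.lz l) hm).eq
  have hpm : pi C ((l : G) * m) = swap 0 1 := by
    rw [S.pi_mul (S.lz l) hm, S.pi_L, hl, inv_mul_cancel_right]
  have hsq : ((l : G) * m) ^ 2 ∈ centralizer (L : Set G) := S.mem_K_of_pi (Commute.pow_left hm1 2).eq (by
    rw [S.pi_pow hm1, hpm, pow_two, swap_mul_self])
  set σ' := ((l : G) * m) ^ Nat.card W with hσ'
  have hσz : σ' * C.s = C.s * σ' := (Commute.pow_left hm1 _).eq
  have hσs : Perm.sign (pi C σ') = -1 := by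
    rw [hσ', S.pi_pow hm1, hpm, map_pow, sign_swap (by decide), hWodd.neg_one_pow]
  have hσ2 : σ' ^ 2 = 1 ∨ σ' ^ 2 = C.s := by
    rw [hσ', ← pow_mul, mul_comm, pow_mul]
    have hcard : ∀ k ∈ W, k ^ Nat.card W = 1 := fun k hk =>
      congrArg Subtype.val (pow_card_eq_one' (x := (⟨k, hk⟩ : W)))
    rcases hW _ hsq with h | h
    · exact Or.inl (hcard _ h)
    · right
      have h1 := hcard _ h
      rw [(show Commute (((l : G) * m) ^ 2) (C.s : G) from S.kz hsq).mul_pow] at h1
      have h2 : (C.s : G) ^ Nat.card W = C.s := by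
        rw [← Subgroup.coe_pow, C.pow_s_odd hWodd]
      rw [h2] at h1
      rw [eq_inv_of_mul_eq_one_left h1, inv_eq_of_mul_eq_one_right S.z2]
  have hσ4 : σ' ^ 2 ^ 2 = 1 := by
    rw [show (2 : ℕ) ^ 2 = 2 + 2 by norm_num, pow_add]
    rcases hσ2 with h | h <;> rw [h]
    · rw [one_mul]
    · exact S.z2
  obtain ⟨σ, hσP, hσs, hσ2⟩ : ∃ σ ∈ (P : Subgroup G), Perm.sign (pi C σ) = -1 ∧ (σ ^ 2 = 1 ∨ σ ^ 2 = C.s) := by
    set M := centralizer ({(C.s : G)} : Set G) with hM
    have hPM : (P : Subgroup G) ≤ M := fun x hx => mem_centralizer_singleton_iff.2 (hP x hx)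
    let PM := P.subtype hPM
    have hp : IsPGroup 2 (zpowers (⟨σ', mem_centralizer_singleton_iff.2 hσz⟩ : M)) := by
      obtain ⟨i, -, hi⟩ := (Nat.dvd_prime_pow Nat.prime_two).1 (orderOf_dvd_of_pow_eq_one hσ4)
      exact IsPGroup.of_card (n := i) (by rw [Nat.card_zpowers, Subgroup.orderOf_mk, hi])
    obtain ⟨Q', hQ'⟩ := hp.exists_le_sylow
    obtain ⟨c, hc⟩ := MulAction.exists_smul_eq M Q' PM
    have hmem : c * ⟨σ', mem_centralizer_singleton_iff.2 hσz⟩ * c⁻¹ ∈ (PM : Subgroup M) := by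
      rw [← hc]; exact ⟨_, hQ' (mem_zpowers _), rfl⟩
    have hcz := mem_centralizer_singleton_iff.1 c.2
    refine ⟨(c : G) * σ' * (c : G)⁻¹, mem_subgroupOf.1 hmem, by rw [S.sign_conj' hcz hσz, hσs], ?_⟩
    rw [conj_pow]
    rcases hσ2 with h | h <;> rw [h]
    · left; group
    · right; rw [hcz, mul_inv_cancel_right]
  have hσz := hP σ hσP
  have hσQ : σ ∉ Q := fun h => by rw [h.2] at hσs; exact absurd hσs (by decide)
  have hidx : Q.relIndex (P : Subgroup G) = 2 := by
    refine index_eq_two_iff.2 ⟨⟨σ, hσP⟩, fun b => ?_⟩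
    simp only [mem_subgroupOf, Subgroup.coe_mul]
    have h1 : ∀ x, x ∈ (P : Subgroup G) → (x ∈ Q ↔ Perm.sign (pi C x) = 1) := fun x hx =>
      ⟨fun h => h.2, fun h => ⟨hx, h⟩⟩
    rw [h1 _ b.2, h1 _ (mul_mem b.2 hσP), S.sign_mul' (hP b b.2) hσz, hσs]
    rcases Int.units_eq_one_or (Perm.sign (pi C (b : G))) with h | h <;> rw [h] <;> simp [Xor]
  have hperfect : commutator G = ⊤ :=
    (inferInstance : (commutator G).Normal).eq_bot_or_eq_top.resolve_left fun h => hG ⟨⟨fun a b => by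
      refine commutatorElement_eq_one_iff_mul_comm.1 (mem_bot.1 (h ▸ ?_))
      exact commutator_mem_commutator (mem_top a) (mem_top b)⟩⟩
  have hone : ∀ x ∈ (P : Subgroup G), ∀ n : ℕ, x ^ 2 ^ n = 1 → Perm.sign (pi C x) = 1 → x ∈ L :=
    fun x hx n hn h => S.two_elt_even N (hP x hx) h hn
  -- no odd involution
  rcases hσ2 with hσ2 | hσ2
  · have hσo : orderOf σ = 2 := orderOf_eq_prime hσ2 fun e => by
      rw [e, S.pi_one, map_one] at hσs; exact absurd hσs (by decide)
    rcases Cfsg.Agent.S0111.result P Q hQP hidx σ hσo hσP hσQ with ⟨M, hMn, hMi, -⟩ | ⟨a, ha⟩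
    · rcases hMn.eq_bot_or_eq_top with h | h <;> rw [h] at hMi
      · rw [index_bot] at hMi
        haveI : IsCyclic G := isCyclic_of_prime_card (p := 2) hMi
        exact hG ⟨⟨fun x y => by letI := IsCyclic.commGroup (α := G); exact mul_comm x y⟩⟩
      · rw [index_top] at hMi; norm_num at hMi
    · have h2 : a * σ * a⁻¹ * (a * σ * a⁻¹) = 1 := by
        rw [show a * σ * a⁻¹ * (a * σ * a⁻¹) = a * (σ * σ) * a⁻¹ by group, ← pow_two, hσ2]; group
      have hL := hone _ ha.1 1 (by rw [pow_one, pow_two, h2]) ha.2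
      obtain ⟨h, hh⟩ := S.inv_L_conj N (x := ⟨_, hL⟩) (Subtype.ext h2) fun e => by
        have e' : σ = 1 := conj_eq_one_iff.1 (congrArg Subtype.val e)
        rw [e', S.pi_one, map_one] at hσs; exact absurd hσs (by decide)
      have e : σ = a⁻¹ * h * C.s * (a⁻¹ * h)⁻¹ := by
        calc σ = a⁻¹ * (a * σ * a⁻¹) * a := by group
          _ = a⁻¹ * (h * C.s * h⁻¹) * a := by rw [hh]
          _ = _ := by group
      have := S.sign_nb (h := a⁻¹ * h) (e ▸ hσz)
      rw [← e, hσs] at this; exact absurd this (by decide)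
  -- transfer
  refine Cfsg.Agent.S1241.result (p := 2) (P : Subgroup G) Q hQP ?_ ?_ ?_ σ hσP hσQ ?_ ?_
    (hperfect ▸ mem_top σ)
  · haveI : (Q.subgroupOf (P : Subgroup G)).Normal := normal_of_index_eq_two hidx
    infer_instance
  · intro x hx y hy
    refine ⟨mul_mem (mul_mem (mul_mem hx hy) (inv_mem hx)) (inv_mem hy), ?_⟩
    rw [S.sign_mul' (Commute.mul_left (Commute.mul_left (hP x hx) (hP y hy)) (Commute.inv_left (hP x hx))).eq
        (Commute.inv_left (hP y hy)).eq,
      S.sign_conj' (hP x hx) (hP y hy), S.pi_inv (hP y hy), map_inv, mul_inv_cancel]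
  · exact Nat.prime_two.coprime_iff_not_dvd.2 P.not_dvd_index
  · obtain ⟨i, -, hi⟩ := (Nat.dvd_prime_pow Nat.prime_two).1 (orderOf_dvd_of_pow_eq_one (x := σ) (n := 2 ^ 2) (by
      rw [show (2 : ℕ) ^ 2 = 2 * 2 by norm_num, pow_mul, hσ2, pow_two, S.z2]))
    exact ⟨i, hi⟩
  intro i a ha
  set τ := a * σ ^ i * a⁻¹ with hτ
  have hiP : σ ^ i ∈ (P : Subgroup G) := zpow_mem hσP i
  have hiz := hP _ hiP
  suffices h : Perm.sign (pi C τ) = Perm.sign (pi C (σ ^ i)) from
    ⟨mul_mem ha (inv_mem hiP), by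
      rw [S.sign_mul' (hP τ ha) (Commute.inv_left hiz).eq, S.pi_inv hiz, map_inv, h, mul_inv_cancel]⟩
  rcases Int.even_or_odd i with ⟨j, rfl⟩ | ⟨j, rfl⟩
  · have he : σ ^ (j + j) = 1 ∨ σ ^ (j + j) = C.s := by
      rw [show j + j = (2 : ℕ) * j by push_cast; ring, zpow_mul, zpow_natCast, hσ2]
      rcases Int.even_or_odd j with ⟨r, rfl⟩ | ⟨r, rfl⟩
      · left; rw [← two_mul, zpow_mul, zpow_two, S.z2, one_zpow]
      · right; rw [zpow_add, zpow_mul, zpow_two, S.z2, one_zpow, one_mul, zpow_one]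
    rcases he with e | e <;> rw [hτ, e]
    · rw [mul_one, mul_inv_cancel]
    · rw [S.sign_nb (h := a) (e ▸ hP _ ha), S.pi_K S.zK, map_one]
  · have hsi : Perm.sign (pi C (σ ^ (2 * j + 1))) = -1 := by
      rw [zpow_add_one, zpow_mul, show ((2 : ℤ)) = ((2 : ℕ) : ℤ) from rfl, zpow_natCast, hσ2]
      have hzj : (C.s : G) ^ j ∈ centralizer (L : Set G) := zpow_mem S.zK j
      rw [S.sign_mul' (S.kz hzj) hσz, S.pi_K hzj, map_one, one_mul, hσs]
    have hsq : (σ ^ (2 * j + 1)) ^ 2 = C.s := by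
      rw [← zpow_natCast, ← zpow_mul, show (2 * j + 1) * ((2 : ℕ) : ℤ) = 2 * (2 * j + 1) by push_cast; ring,
        zpow_mul, show ((2 : ℤ)) = ((2 : ℕ) : ℤ) from rfl, zpow_natCast, hσ2]
      push_cast
      rw [zpow_add_one, zpow_mul, zpow_two, S.z2, one_zpow, one_mul]
    set ρ := σ ^ (2 * j + 1) with hρ
    rw [hsi]
    rcases Int.units_eq_one_or (Perm.sign (pi C τ)) with ht | ht
    swap
    · exact ht
    exfalso
    have hτ2 : τ ^ 2 = a * C.s * a⁻¹ := by rw [hτ, conj_pow, hsq]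
    have hτ4 : τ ^ 2 ^ 2 = 1 := by
      rw [show (2 : ℕ) ^ 2 = 2 * 2 by norm_num, pow_mul, hτ2, pow_two, S.nb_sq]
    have hτL := hone τ ha 2 hτ4 ht
    by_cases haz : a * C.s = C.s * a
    · rw [hτ, S.sign_conj' haz hiz, hsi] at ht; exact absurd ht (by decide)
    have N' : Nb C a := ⟨hτ2 ▸ (Commute.pow_left (hP τ ha) 2).eq, haz⟩
    obtain ⟨e, he, hef⟩ := S.nb_mem N'
    have hee : (⟨τ, hτL⟩ : L) * ⟨τ, hτL⟩ = e := Subtype.ext (by rw [Subgroup.coe_mul, he, ← hτ2, pow_two])
    have he2 : C.p e * C.p e = 1 := by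
      rw [← map_mul, show e * e = 1 from Subtype.ext (by rw [Subgroup.coe_mul, he, S.nb_sq, Subgroup.coe_one]),
        map_one]
    obtain ⟨σx, σy, x3, y3, cx, cy, hxy⟩ := sqrt_product he2 hef (t := C.p ⟨τ, hτL⟩) (by rw [← map_mul, hee])
    obtain ⟨x, rfl, hx⟩ := S.exists_cube_lift x3
    obtain ⟨y, rfl, hy⟩ := S.exists_cube_lift y3
    have hback : ∀ r : L, Commute (e : G) (r : G) → a⁻¹ * r * a * C.s = C.s * (a⁻¹ * r * a) := fun r hr => by
      rw [he] at hr
      calc a⁻¹ * r * a * C.s = a⁻¹ * (r * (a * C.s * a⁻¹)) * a := by group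
        _ = a⁻¹ * (a * C.s * a⁻¹ * r) * a := by rw [← hr.eq]
        _ = _ := by group
    have hcube : ∀ r : L, r ^ 3 = 1 → Commute (C.p e) (C.p r) →
        a⁻¹ * r * a * C.s = C.s * (a⁻¹ * r * a) ∧ Perm.sign (pi C (a⁻¹ * r * a)) = 1 := fun r hr hc => by
      have hcm := hback r (S.comm_cube (S.lz e) hr (by rw [S.pi_L]; exact hc))
      refine ⟨hcm, ?_⟩
      have h1 : Perm.sign (pi C (a⁻¹ * r * a)) ^ 3 = 1 := by
        rw [← map_pow, ← S.pi_pow hcm, show a⁻¹ * (r : G) * a = a⁻¹ * r * a⁻¹⁻¹ by rw [inv_inv], conj_pow,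
          ← Subgroup.coe_pow, hr, Subgroup.coe_one, mul_one, mul_inv_cancel, S.pi_one, map_one]
      rcases Int.units_eq_one_or (Perm.sign (pi C (a⁻¹ * r * a))) with h | h
      · exact h
      · rw [h] at h1; exact absurd h1 (by decide)
    obtain ⟨mx, sx⟩ := hcube x hx cx
    obtain ⟨my, sy⟩ := hcube y hy cy
    have hN := N'.symm
    have hzz : a⁻¹ * C.s * a * C.s = C.s * (a⁻¹ * C.s * a) ∧ Perm.sign (pi C (a⁻¹ * C.s * a)) = 1 := by
      have h := hN.hz
      rw [inv_inv] at h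
      have h2 := S.sign_nb (h := a⁻¹) hN.hz
      rw [inv_inv] at h2
      exact ⟨h, h2⟩
    have hxyz : a⁻¹ * (x * y) * a * C.s = C.s * (a⁻¹ * ((x : G) * y) * a) ∧
        Perm.sign (pi C (a⁻¹ * ((x : G) * y) * a)) = 1 := by
      rw [show a⁻¹ * ((x : G) * y) * a = (a⁻¹ * x * a) * (a⁻¹ * y * a) by group]
      exact ⟨(Commute.mul_left mx my).eq, by rw [S.sign_mul' mx my, sx, sy, one_mul]⟩
    have hfin : Perm.sign (pi C ρ) = 1 := by
      have e' : ρ = a⁻¹ * τ * a := by rw [hτ]; group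
      rcases C.eq_or_eq (x := ⟨τ, hτL⟩) (y := x * y) (by rw [hxy, map_mul]) with h | h <;>
        have h' := congrArg Subtype.val h <;> push_cast at h' <;> rw [e', h']
      · exact hxyz.2
      · rw [show a⁻¹ * ((x : G) * y * C.s) * a = a⁻¹ * ((x : G) * y) * a * (a⁻¹ * C.s * a) by group,
          S.sign_mul' hxyz.1 hzz.1, hxyz.2, hzz.2, one_mul]
    rw [hsi] at hfin; exact absurd hfin (by decide)

end Sit

end Cfsg.Lib.StdMcl
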