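import Cfsg.Agent.Lib.StdMcl.Core
import Cfsg.Agent.Lib.FTCons.StandardSubgroup
import Cfsg.Agent.Lib.MclType.CountFacts

/-!
# The McLaughlin group from a standard double cover of the alternating group of degree eight
-/

set_option autoImplicit false
set_option linter.style.haveILetI false

namespace Cfsg.Lib.StdMcl

open Subgroup Cfsg.Lib.CoverAlt

theorem mcl_of_standard {G : Type*} [Group G] [Finite G] [IsSimpleGroup G] (hG : ¬ IsMulCommutative G)
    (L : Subgroup G) (hL : Cfsg.IsStandardSubgroup L)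
    (hLX : Cfsg.IsNonsplitDoubleCover ↥L ↥(alternatingGroup (Fin 8))) :
    Cfsg.Spor.IsoMcL G := by
  classical
  obtain ⟨C, hC⟩ := exists_cov (by norm_num) hLX
  obtain ⟨-, hcard, -⟩ := MclType.exists_proj hLX
  have hzK : (C.s : G) ∈ centralizer (L : Set G) :=
    mem_centralizer_iff.2 fun x hx => congrArg Subtype.val (C.comm ⟨x, hx⟩)
  have hz2 : (C.s : G) * C.s = 1 := congrArg Subtype.val C.ss
  have hz1 : (C.s : G) ≠ 1 := fun e => C.s1 (Subtype.ext e)
  have hzo : orderOf (C.s : G) = 2 := orderOf_eq_prime (by rw [pow_two, hz2]) hz1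
  have hcen : ∀ m : G, m ∈ normalizer (centralizer (L : Set G) : Set G) → m * C.s = C.s * m := fun m hm => by
    rw [← hL.2.2.2] at hm
    have hmem : m * C.s * m⁻¹ ∈ L := (mem_normalizer_iff.1 hm _).1 C.s.2
    have h : (⟨_, hmem⟩ : L) ∈ center L := mem_center_iff.2 fun x => Subtype.ext (by
      have hx : m⁻¹ * x * m ∈ L := by
        have := (mem_normalizer_iff.1 (inv_mem hm) x).1 x.2
        rwa [inv_inv] at this
      show (x : G) * (m * C.s * m⁻¹) = m * C.s * m⁻¹ * x
      calc (x : G) * (m * C.s * m⁻¹) = m * (m⁻¹ * x * m * C.s) * m⁻¹ := by group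
        _ = m * (C.s * (m⁻¹ * x * m)) * m⁻¹ := by rw [mem_centralizer_iff.1 hzK _ hx]
        _ = _ := by group)
    rcases (hC _).1 h with e | e <;> have e' := congrArg Subtype.val e
    · exact absurd (conj_eq_one_iff.1 e') hz1
    · exact mul_inv_eq_iff_eq_mul.1 e'
  have S : Sit C :=
    { perfect := hL.1.1.commutator_eq_top
      cent := fun x hx => (hC x).1 hx
      card := hcard
      norm := fun m hm => FTCons.standard_centralizer_le hL hzo hzK (mem_centralizer_singleton_iff.2 hm)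
      tight := fun g hg => hL.2.1.2 g fun h => hg (hcen g h) }
  obtain ⟨g, hgc, hgne⟩ : ∃ g : G, g * C.s * g⁻¹ * C.s = C.s * (g * C.s * g⁻¹) ∧ g * C.s ≠ C.s * g := by
    by_contra hn
    push Not at hn
    have hiso : Cfsg.IsIsolatedInvolution (C.s : G) :=
      ⟨hzo, fun g hg => by rw [hn g hg.eq.symm, mul_inv_cancel_right]⟩
    have h := MclType.factor_of_isolated hiso
    haveI : (Cfsg.oddCore G).Normal := inferInstanceAs (Cfsg.pPrimeCore 2 G).Normal
    rcases (inferInstance : (Cfsg.oddCore G).Normal).eq_bot_or_eq_top with e | e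
    · rw [e, sup_bot_eq] at h
      have hc : (C.s : G) ∈ center G := mem_center_iff.2 fun y =>
        mem_centralizer_singleton_iff.1 (h ▸ mem_top y)
      rcases (inferInstance : (center G).Normal).eq_bot_or_eq_top with e' | e'
      · exact hz1 (mem_bot.1 (e' ▸ hc))
      · exact hG ⟨⟨fun a b => (mem_center_iff.1 (e' ▸ mem_top a : a ∈ center G) b).symm⟩⟩
    · have h2 : 2 ∣ Nat.card (Cfsg.pPrimeCore 2 G) := by
        rw [show Cfsg.pPrimeCore 2 G = ⊤ from e, card_top, ← hzo]; exact orderOf_dvd_natCard _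
      exact Nat.Prime.not_coprime_iff_dvd.2 ⟨2, Nat.prime_two, h2, dvd_rfl⟩ (Cfsg.Lib.Core.pPrimeCore_coprime 2 G)
  have hCL : centralizer ({(C.s : G)} : Set G) = L := le_antisymm (S.core_trivial hG ⟨hgc, hgne⟩)
    fun l hl => mem_centralizer_singleton_iff.2 (S.lz ⟨l, hl⟩)
  rcases Cfsg.Agent.S3334.result (C.s : G) hzo (by rw [hCL]; exact hLX) with h | h
  · exfalso
    haveI : (Cfsg.oddCore G).Normal := inferInstanceAs (Cfsg.pPrimeCore 2 G).Normal
    rcases (inferInstance : (Cfsg.oddCore G).Normal).eq_bot_or_eq_top with e | e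
    · rw [e, sup_bot_eq] at h
      exact hgne (mem_centralizer_singleton_iff.1 (h ▸ mem_top g))
    · have h2 : 2 ∣ Nat.card (Cfsg.pPrimeCore 2 G) := by
        rw [show Cfsg.pPrimeCore 2 G = ⊤ from e, card_top, ← hzo]; exact orderOf_dvd_natCard _
      exact Nat.Prime.not_coprime_iff_dvd.2 ⟨2, Nat.prime_two, h2, dvd_rfl⟩ (Cfsg.Lib.Core.pPrimeCore_coprime 2 G)
  · exact h

end Cfsg.Lib.StdMcl
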