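import Cfsg.Agent.Lib.CoverAlt.Cover

/-!
# Permutations of eight points centralizing an involution
-/

set_option autoImplicit false
set_option maxRecDepth 20000

namespace Cfsg.Lib.StdMcl

open Equiv Equiv.Perm Cfsg.Lib.CoverAlt
open scoped commutatorElement

/-- Permutations of eight points. -/
abbrev S8 := Perm (Fin 8)

/-- A cycle on three points. -/
def c3 (a b c : Fin 8) : S8 := swap a b * swap b c

/-- The standard fixed-point-free involution. -/
def a0 : S8 := swap 0 1 * swap 2 3 * swap 4 5 * swap 6 7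

/-- The standard element of order three commuting with it. -/
def y0 : S8 := c3 0 2 4 * c3 1 3 5

/-- The standard square root of the fixed-point-free involution. -/
def t0 : S8 := swap 0 2 * swap 2 1 * swap 1 3 * (swap 4 6 * swap 6 5 * swap 5 7)

theorem conj_isDT {δ : S8} (τ : S8) (h : IsDT δ) : IsDT (τ * δ * τ⁻¹) := by
  obtain ⟨a, b, c, d, hab, hcd, hac, had, hbc, hbd, rfl⟩ := h
  refine ⟨τ a, τ b, τ c, τ d, τ.injective.ne hab, τ.injective.ne hcd, τ.injective.ne hac, τ.injective.ne had,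
    τ.injective.ne hbc, τ.injective.ne hbd, ?_⟩
  refine Equiv.ext fun x => ?_
  obtain ⟨y, rfl⟩ := τ.surjective x
  simp [Perm.mul_apply, τ.injective.swap_apply]

/-- The data of a double commutator centralizing an involution. -/
def DComm (a x q q' : S8) : Prop :=
  Perm.sign q = 1 ∧ Perm.sign q' = 1 ∧ x ^ 3 = 1 ∧ Commute a x ∧ Commute a q ∧ Commute a q' ∧
    IsDT ⁅x, ⁅x, q⁆⁆ ∧ IsDT ⁅x, ⁅x, q'⁆⁆ ∧ IsDT (⁅x, ⁅x, q⁆⁆ * ⁅x, ⁅x, q'⁆⁆)

theorem dcomm_conj {a x q q' : S8} (τ : S8) (h : DComm a x q q') :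
    DComm (τ * a * τ⁻¹) (τ * x * τ⁻¹) (τ * q * τ⁻¹) (τ * q' * τ⁻¹) := by
  obtain ⟨s1, s2, h3, c1, c2, c3', d1, d2, d3⟩ := h
  have hs : ∀ u : S8, Perm.sign (τ * u * τ⁻¹) = Perm.sign u := fun u => by
    rw [map_mul, map_mul, map_inv, mul_right_comm, mul_inv_cancel, one_mul]
  have hc : ∀ u, Commute a u → Commute (τ * a * τ⁻¹) (τ * u * τ⁻¹) := fun u hu => by
    simpa using hu.map (MulAut.conj τ).toMonoidHom
  have hcm : ∀ u v : S8, ⁅τ * u * τ⁻¹, τ * v * τ⁻¹⁆ = τ * ⁅u, v⁆ * τ⁻¹ := fun u v => by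
    rw [commutatorElement_def, commutatorElement_def]; group
  refine ⟨(hs q).trans s1, (hs q').trans s2, by rw [conj_pow, h3, mul_one, mul_inv_cancel], hc x c1, hc q c2,
    hc q' c3', ?_, ?_, ?_⟩ <;> simp only [hcm]
  · exact conj_isDT τ d1
  · exact conj_isDT τ d2
  · rw [show ∀ u v : S8, τ * u * τ⁻¹ * (τ * v * τ⁻¹) = τ * (u * v) * τ⁻¹ from fun u v => by group]
    exact conj_isDT τ d3

theorem dcomm_one : DComm (swap 0 1) (c3 5 6 7) (swap 4 5 * swap 6 7) (c3 4 6 5) := by
  refine ⟨by decide +kernel, by decide +kernel, by decide +kernel, ?_, ?_, ?_,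
    ⟨4, 6, 5, 7, ?_⟩, ⟨4, 7, 5, 6, ?_⟩, ⟨4, 5, 6, 7, ?_⟩⟩ <;>
  first | (unfold Commute SemiconjBy; decide +kernel) | decide +kernel

theorem dcomm_two : DComm (swap 0 1 * swap 2 3) (c3 5 6 7) (swap 4 5 * swap 6 7) (c3 4 6 5) := by
  refine ⟨by decide +kernel, by decide +kernel, by decide +kernel, ?_, ?_, ?_,
    ⟨4, 6, 5, 7, ?_⟩, ⟨4, 7, 5, 6, ?_⟩, ⟨4, 5, 6, 7, ?_⟩⟩ <;>
  first | (unfold Commute SemiconjBy; decide +kernel) | decide +kernel

theorem dcomm_three :
    DComm (swap 0 1 * swap 2 3 * swap 4 5) y0 (swap 4 5 * swap 6 7) (swap 2 3 * swap 6 7) := by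
  refine ⟨by decide +kernel, by decide +kernel, by decide +kernel, ?_, ?_, ?_,
    ⟨2, 3, 4, 5, ?_⟩, ⟨0, 1, 2, 3, ?_⟩, ⟨0, 1, 4, 5, ?_⟩⟩ <;>
  first | (unfold Commute SemiconjBy; decide +kernel) | decide +kernel

theorem dcomm_four : DComm a0 (c3 2 4 6 * c3 3 5 7) (swap 4 5 * swap 6 7) (swap 4 7 * swap 5 6) := by
  refine ⟨by decide +kernel, by decide +kernel, by decide +kernel, ?_, ?_, ?_,
    ⟨2, 3, 6, 7, ?_⟩, ⟨2, 3, 4, 5, ?_⟩, ⟨4, 5, 6, 7, ?_⟩⟩ <;>
  first | (unfold Commute SemiconjBy; decide +kernel) | decide +kernel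

/-- An involution is conjugate to a product of disjoint transpositions. -/
theorem involution_rep {a : S8} (ha : a * a = 1) (ha1 : a ≠ 1) :
    ∃ b ∈ ([swap 0 1, swap 0 1 * swap 2 3, swap 0 1 * swap 2 3 * swap 4 5, a0] : List S8), IsConj b a := by
  have hall : ∀ n ∈ a.cycleType, n = 2 := fun n hn => by
    have h2 := (Nat.le_of_dvd two_pos ((Multiset.dvd_lcm hn).trans (Perm.lcm_cycleType a ▸
      orderOf_dvd_of_pow_eq_one (by rw [pow_two, ha]))))
    have := Perm.two_le_of_mem_cycleType hn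
    omega
  have hrep : a.cycleType = Multiset.replicate a.cycleType.card 2 := Multiset.eq_replicate_card.2 hall
  have hle : 2 * a.cycleType.card ≤ 8 := by
    have h := Perm.sum_cycleType_le a
    rw [hrep, Multiset.sum_replicate, Fintype.card_fin, smul_eq_mul] at h
    omega
  have h0 : a.cycleType.card ≠ 0 := fun e => ha1 (Perm.cycleType_eq_zero.1 (Multiset.card_eq_zero.1 e))
  have hc : ∀ b : S8, b.cycleType = Multiset.replicate a.cycleType.card 2 → IsConj b a := fun b hb =>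
    isConj_iff_cycleType_eq.2 (hb.trans hrep.symm)
  have key : (swap 0 1 : S8).cycleType = {2} ∧ (swap 0 1 * swap 2 3 : S8).cycleType = Multiset.replicate 2 2 ∧
      (swap 0 1 * swap 2 3 * swap 4 5 : S8).cycleType = Multiset.replicate 3 2 ∧
      a0.cycleType = Multiset.replicate 4 2 := by
    refine ⟨?_, ?_, ?_, ?_⟩ <;> decide +kernel
  rcases (show a.cycleType.card = 1 ∨ a.cycleType.card = 2 ∨ a.cycleType.card = 3 ∨ a.cycleType.card = 4 by omega)
    with e | e | e | e <;> rw [e] at hc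
  · exact ⟨_, by simp, hc _ key.1⟩
  · exact ⟨_, by simp, hc _ key.2.1⟩
  · exact ⟨_, by simp, hc _ key.2.2.1⟩
  · exact ⟨_, by simp, hc _ key.2.2.2⟩

/-- Every involution is centralized by a suitable double commutator. -/
theorem exists_dcomm {a : S8} (ha : a * a = 1) (ha1 : a ≠ 1) : ∃ x q q', DComm a x q q' := by
  obtain ⟨b, hb, hc⟩ := involution_rep ha ha1
  obtain ⟨τ, rfl⟩ := isConj_iff.1 hc
  simp only [List.mem_cons, List.not_mem_nil, or_false] at hb
  rcases hb with rfl | rfl | rfl | rfl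
  exacts [⟨_, _, _, dcomm_conj τ dcomm_one⟩, ⟨_, _, _, dcomm_conj τ dcomm_two⟩,
    ⟨_, _, _, dcomm_conj τ dcomm_three⟩, ⟨_, _, _, dcomm_conj τ dcomm_four⟩]

/-- Three points moved by an element of order three and their images under a commuting involution are distinct. -/
theorem six_distinct {a x : S8} (ha : a * a = 1) (hx : x ^ 3 = 1) (hax : Commute a x) {r : Fin 8}
    (hr : x r ≠ r) (har : a r ≠ r) : [r, x r, x (x r), a r, a (x r), a (x (x r))].Nodup := by
  have a2 : ∀ p, a (a p) = p := fun p => by rw [← Perm.mul_apply, ha, Perm.one_apply]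
  have x3 : ∀ p, x (x (x p)) = p := fun p => by
    rw [← Perm.mul_apply, ← Perm.mul_apply, ← pow_three', hx, Perm.one_apply]
  have hc : ∀ p, a (x p) = x (a p) := fun p => by rw [← Perm.mul_apply, hax.eq, Perm.mul_apply]
  have h1 : r ≠ x (x r) := fun e => hr (by rw [congrArg x e, x3])
  have h2 : x r ≠ x (x r) := fun e => hr (x.injective e).symm
  have k1 : a r ≠ x r := fun e => by
    refine hr (?_ : x r = r)
    have : x (x r) = r := by rw [← e, ← hc, ← e, a2]
    exact absurd this.symm h1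
  have k2 : a r ≠ x (x r) := fun e => k1 (by
    have h : a (x r) = r := by rw [hc, e, x3]
    calc a r = a (a (x r)) := by rw [h]
      _ = x r := a2 _)
  have k3 : a (x r) ≠ x r := fun e => har (x.injective (by rw [← hc, e]))
  have k4 : a (x (x r)) ≠ x (x r) := fun e => k3 (x.injective (by rw [← hc, e]))
  have k5 : a (x r) ≠ x (x r) := fun e => k1 (x.injective (by rw [← hc, e]))
  have k6 : a (x r) ≠ r := fun e => k1 (by rw [← congrArg a e, a2])
  have k7 : a (x (x r)) ≠ r := fun e => k2 (by rw [← congrArg a e, a2])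
  have k8 : a (x (x r)) ≠ x r := fun e => k5 (by rw [← congrArg a e, a2])
  simp only [List.nodup_cons, List.mem_cons, List.not_mem_nil, or_false, not_or, List.nodup_nil, and_true,
    not_false_iff]
  exact ⟨⟨hr.symm, h1, har.symm, k6.symm, k7.symm⟩, ⟨h2, k1.symm, k3.symm, k8.symm⟩,
    ⟨k2.symm, k5.symm, k4.symm⟩, ⟨a.injective.ne hr.symm, a.injective.ne h1⟩, a.injective.ne h2⟩

/-- The commutator of elements preserving a set of fixed points fixes it. -/
theorem fix_comm {F : Set (Fin 8)} {x q : S8} (hx : ∀ p ∈ F, x p = p) (hq : ∀ p, p ∈ F ↔ q p ∈ F) :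
    ∀ p ∈ F, ⁅x, q⁆ p = p := by
  intro p hp
  have hm : q⁻¹ p ∈ F := (hq _).2 (by simpa using hp)
  have hi : ∀ p ∈ F, x⁻¹ p = p := fun p hp => by
    conv_lhs => rw [← hx p hp]
    simp
  simp only [commutatorElement_def, Perm.mul_apply]
  rw [hi _ hm, Perm.coe_inv, Equiv.apply_symm_apply]
  exact hx p hp

/-- A double commutator fixes a common set of fixed points. -/
theorem fix_dcomm {F : Set (Fin 8)} {x e e' : S8} (hx : ∀ p ∈ F, x p = p) (he : ∀ p, p ∈ F ↔ e p ∈ F)
    (he' : ∀ p, p ∈ F ↔ e' p ∈ F) {p : Fin 8} (hp : p ∈ F) : ⁅⁅x, e⁆, ⁅x, e'⁆⁆ p = p := by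
  refine fix_comm (fix_comm hx he) (fun p => ?_) p hp
  have hf := fix_comm hx he'
  refine ⟨fun h => by rwa [hf p h], fun h => ?_⟩
  rw [← (⁅x, e'⁆).injective (hf _ h)]
  exact h

theorem sign_comm (x y : S8) : Perm.sign ⁅x, y⁆ = 1 := by
  rw [map_commutatorElement]; exact commutatorElement_eq_one_iff_mul_comm.2 (mul_comm _ _)

/-- An involution which is a double commutator in its centralizer has no fixed point. -/
theorem no_fixed {a x e e' : S8} (ha : a * a = 1) (ha1 : a ≠ 1) (hx : x ^ 3 = 1) (cx : Commute a x)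
    (ce : Commute a e) (ce' : Commute a e') (h : a = ⁅⁅x, e⁆, ⁅x, e'⁆⁆) : ∀ p, a p ≠ p := by
  obtain ⟨b, hb, hc⟩ := involution_rep ha ha1
  obtain ⟨τ, hτ⟩ := isConj_iff.1 hc
  have hsign : Perm.sign a = 1 := h ▸ sign_comm _ _
  have hsb : Perm.sign b = 1 := by
    rw [← hsign, ← hτ, map_mul, map_mul, map_inv, mul_right_comm, mul_inv_cancel, one_mul]
  simp only [List.mem_cons, List.not_mem_nil, or_false] at hb
  rcases hb with rfl | rfl | rfl | rfl
  · exact absurd hsb (by decide +kernel)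
  · exfalso
    set F : Set (Fin 8) := {p | a p ≠ p} with hF
    have hF4 : ∀ p ∈ F, p ∈ [τ 0, τ 1, τ 2, τ 3] := by
      intro p hp
      obtain ⟨q, rfl⟩ := τ.surjective p
      have hb : ∀ q : Fin 8, (swap 0 1 * swap 2 3 : S8) q ≠ q → q ∈ [(0 : Fin 8), 1, 2, 3] := by decide +kernel
      have := hb q (fun e => hp (by rw [← hτ]; simp only [Perm.mul_apply, Perm.coe_inv, Equiv.symm_apply_apply]; exact congrArg τ e))
      simp only [List.mem_cons, List.not_mem_nil, or_false] at this ⊢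
      rcases this with e | e | e | e <;> simp [e]
    have hcm : ∀ q : S8, Commute a q → ∀ p, p ∈ F ↔ q p ∈ F := fun q hq p => by
      simp only [hF, Set.mem_ofPred_eq]
      rw [← Perm.mul_apply, hq.eq, Perm.mul_apply, q.injective.ne_iff]
    have hfix : ∀ p ∈ F, x p = p := by
      intro p hp
      by_contra hne
      have hn := six_distinct ha hx cx hne hp
      have hmem : ∀ y ∈ [p, x p, x (x p), a p, a (x p), a (x (x p))], y ∈ [τ 0, τ 1, τ 2, τ 3] := by
        intro y hy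
        refine hF4 y ?_
        simp only [List.mem_cons, List.not_mem_nil, or_false] at hy
        have h1 := (hcm x cx p).1 hp
        have h2 := (hcm x cx _).1 h1
        have hA := fun q hq => (hcm a (Commute.refl a) q).1 hq
        rcases hy with rfl | rfl | rfl | rfl | rfl | rfl
        exacts [hp, h1, h2, hA _ hp, hA _ h1, hA _ h2]
      have := (hn.subperm hmem).length_le
      simp at this
    have h0 : τ 0 ∈ F := by
      show a (τ 0) ≠ τ 0
      rw [← hτ]; simp [Equiv.swap_apply_def]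
    exact h0 (by rw [h]; exact fix_dcomm hfix (hcm e ce) (hcm e' ce') h0)
  · exact absurd hsb (by decide +kernel)
  · intro p hp
    obtain ⟨q, rfl⟩ := τ.surjective p
    rw [← hτ] at hp
    simp only [Perm.mul_apply, Perm.coe_inv, Equiv.symm_apply_apply, τ.injective.eq_iff] at hp
    revert hp
    revert q
    decide +kernel

/-- Coordinates adapted to an element of order three and a fixed-point-free involution commuting with it. -/
theorem exists_coord {a x : S8} (ha : a * a = 1) (hf : ∀ p, a p ≠ p) (hx : x ^ 3 = 1) (hax : Commute a x)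
    (hx1 : x ≠ 1) : ∃ τ : S8, τ * y0 * τ⁻¹ = x ∧ τ * a0 * τ⁻¹ = a := by
  obtain ⟨r, hr⟩ : ∃ r, x r ≠ r := by
    by_contra h; push Not at h; exact hx1 (Equiv.ext h)
  have a2 : ∀ p, a (a p) = p := fun p => by rw [← Perm.mul_apply, ha, Perm.one_apply]
  have x3 : ∀ p, x (x (x p)) = p := fun p => by
    rw [← Perm.mul_apply, ← Perm.mul_apply, ← pow_three', hx, Perm.one_apply]
  have hc : ∀ p, a (x p) = x (a p) := fun p => by rw [← Perm.mul_apply, hax.eq, Perm.mul_apply]
  set l := [r, x r, x (x r), a r, a (x r), a (x (x r))] with hl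
  have hn : l.Nodup := six_distinct ha hx hax hr (hf r)
  have hcl : ∀ p, p ∉ l → a p ∉ l ∧ x p = p := by
    intro p hp
    refine ⟨fun h => hp ?_, ?_⟩
    · simp only [hl, List.mem_cons, List.not_mem_nil, or_false] at h ⊢
      rcases h with e | e | e | e | e | e <;> have e' := congrArg a e <;>
        simp only [a2] at e' <;> simp [e']
    by_contra hne
    have hn' := six_distinct ha hx hax hne (hf p)
    have hd : ∀ y ∈ [p, x p, x (x p), a p, a (x p), a (x (x p))], y ∉ l := by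
      intro y hy hyl
      apply hp
      simp only [hl, List.mem_cons, List.not_mem_nil, or_false] at hy hyl ⊢
      have cx : ∀ q, q ∈ l → x q ∈ l := fun q hq => by
        simp only [hl, List.mem_cons, List.not_mem_nil, or_false] at hq ⊢
        rcases hq with rfl | rfl | rfl | rfl | rfl | rfl <;> simp [x3, ← hc]
      have ca : ∀ q, q ∈ l → a q ∈ l := fun q hq => by
        simp only [hl, List.mem_cons, List.not_mem_nil, or_false] at hq ⊢
        rcases hq with rfl | rfl | rfl | rfl | rfl | rfl <;> simp [a2]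
      have hyl' : y ∈ l := by simpa [hl] using hyl
      have : p ∈ l := by
        rcases hy with rfl | rfl | rfl | rfl | rfl | rfl
        · exact hyl'
        · have := cx _ (cx _ hyl'); rwa [x3] at this
        · have := cx _ hyl'; rwa [x3] at this
        · have := ca _ hyl'; rwa [a2] at this
        · have := cx _ (cx _ (ca _ hyl')); rwa [a2, x3] at this
        · have := cx _ (ca _ hyl'); rwa [a2, x3] at this
      simpa [hl] using this
    have := (hn.append hn' (fun y h1 h2 => hd y h2 h1)).length_le_card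
    simp [hl] at this
  obtain ⟨p, hp⟩ : ∃ p, p ∉ l := by
    by_contra h; push Not at h
    have := (Finset.card_le_card (show Finset.univ ⊆ l.toFinset from fun y _ => List.mem_toFinset.2 (h y))).trans
      l.toFinset_card_le
    simp [hl] at this
  obtain ⟨hap, hxp⟩ := hcl p hp
  let f : Fin 8 → Fin 8 := ![r, a r, x r, a (x r), x (x r), a (x (x r)), p, a p]
  have hperm : List.Nodup (List.ofFn f) := by
    have e : List.ofFn f = [r, a r, x r, a (x r), x (x r), a (x (x r)), p, a p] := by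
      simp [f, List.ofFn_succ]
    rw [e]
    have hp1 : List.Perm [r, a r, x r, a (x r), x (x r), a (x (x r)), p, a p] (l ++ [p, a p]) := by
      simp only [hl, List.cons_append, List.nil_append]
      refine List.Perm.cons _ ?_
      refine (List.perm_iff_count).2 fun y => ?_
      simp only [List.count_cons, List.count_nil]
      omega
    refine hp1.nodup_iff.2 (hn.append ?_ ?_)
    · simp [(hf p).symm]
    · intro y h1 h2
      simp only [List.mem_cons, List.not_mem_nil, or_false] at h2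
      rcases h2 with rfl | rfl
      exacts [hp h1, hap h1]
  let τ : S8 := Equiv.ofBijective f (Finite.injective_iff_bijective.1 (List.nodup_ofFn.1 hperm))
  have hτ : ∀ i, τ i = f i := fun i => rfl
  refine ⟨τ, mul_inv_eq_iff_eq_mul.2 (Equiv.ext fun i => ?_), mul_inv_eq_iff_eq_mul.2 (Equiv.ext fun i => ?_)⟩
  all_goals rw [Perm.mul_apply, Perm.mul_apply, hτ, hτ]
  · have hy : y0 i = ![2, 3, 4, 5, 0, 1, 6, 7] i := by revert i; decide +kernel
    rw [hy]
    fin_cases i <;> simp [f, x3, ← hc, hxp]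
  · have hy : a0 i = ![1, 0, 3, 2, 5, 4, 7, 6] i := by revert i; decide +kernel
    rw [hy]
    fin_cases i <;> simp [f, a2]

theorem commute_conj {u v : S8} (τ : S8) (h : Commute u v) : Commute (τ * u * τ⁻¹) (τ * v * τ⁻¹) := by
  simpa using h.map (MulAut.conj τ).toMonoidHom

theorem commute_of_conj {u v : S8} (τ : S8) (h : Commute (τ * u * τ⁻¹) v) : Commute u (τ⁻¹ * v * τ) := by
  have := commute_conj τ⁻¹ h
  simpa [mul_assoc] using this

/-- The two-elements centralizing the involution and an element of order three. -/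
theorem two_part_coord : ∀ s : S8, Commute a0 s → Commute y0 s → s ^ 8 = 1 →
    s = 1 ∨ s = a0 ∨ s = swap 6 7 ∨ s = swap 6 7 * a0 := by
  have hl : ∀ s : S8, Commute a0 s → Commute y0 s →
      ∀ i, s i = ![s 0, a0 (s 0), y0 (s 0), a0 (y0 (s 0)), y0 (y0 (s 0)), a0 (y0 (y0 (s 0))), s 6, a0 (s 6)] i := by
    intro s h1 h2 i
    have e1 : ∀ j, s (a0 j) = a0 (s j) := fun j => by rw [← Perm.mul_apply, ← h1.eq, Perm.mul_apply]
    have e2 : ∀ j, s (y0 j) = y0 (s j) := fun j => by rw [← Perm.mul_apply, ← h2.eq, Perm.mul_apply]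
    have hv : a0 0 = 1 ∧ y0 0 = 2 ∧ y0 2 = 4 ∧ a0 2 = 3 ∧ a0 4 = 5 ∧ a0 6 = 7 := by decide +kernel
    obtain ⟨v1, v2, v3, v4, v5, v6⟩ := hv
    fin_cases i <;> simp [← e1, ← e2, v1, v2, v3, v4, v5, v6]
  have key : ∀ u v : Fin 8,
      (∀ i : Fin 8, ∀ j : Fin 8, i ≠ j → (![u, a0 u, y0 u, a0 (y0 u), y0 (y0 u), a0 (y0 (y0 u)), v, a0 v] i) ≠
        (![u, a0 u, y0 u, a0 (y0 u), y0 (y0 u), a0 (y0 (y0 u)), v, a0 v] j)) →
      (let g : Fin 8 → Fin 8 := ![u, a0 u, y0 u, a0 (y0 u), y0 (y0 u), a0 (y0 (y0 u)), v, a0 v]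
       g (g (g (g (g (g (g (g 0))))))) = 0) →
      ((u = 0 ∨ u = 1) ∧ (v = 6 ∨ v = 7)) := by decide +kernel
  have fin4 : ∀ u v : Fin 8, (u = 0 ∨ u = 1) → (v = 6 ∨ v = 7) →
      ∃ t ∈ ([1, a0, swap 6 7, swap 6 7 * a0] : List S8),
        ∀ i : Fin 8, t i = ![u, a0 u, y0 u, a0 (y0 u), y0 (y0 u), a0 (y0 (y0 u)), v, a0 v] i := by
    decide +kernel
  intro s h1 h2 h8
  have hs := hl s h1 h2
  obtain ⟨hu, hv⟩ := key (s 0) (s 6) (fun i j hij e => hij (s.injective (by rw [hs i, hs j]; exact e))) (by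
    intro g
    have hg : ∀ i, g i = s i := fun i => (hs i).symm
    simp only [hg]
    have := Equiv.ext_iff.1 h8 0
    simpa [pow_succ, Perm.mul_apply] using this)
  obtain ⟨t, ht, he⟩ := fin4 _ _ hu hv
  have : s = t := Equiv.ext fun i => (hs i).trans (he i).symm
  subst this
  simpa using ht

/-- A two-element centralizing a double commutator equal to the involution is a power of the involution. -/
theorem two_elt_dcomm {a s x e e' : S8} (ha : a * a = 1) (hf : ∀ p, a p ≠ p) (hx : x ^ 3 = 1)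
    (cx : Commute a x) (ce : Commute a e) (ce' : Commute a e') (sa : Commute a s) (sx : Commute s x)
    (se : Commute s e) (se' : Commute s e') (h : a = ⁅⁅x, e⁆, ⁅x, e'⁆⁆) (hs : s ^ 8 = 1) :
    s = 1 ∨ s = a := by
  have hx1 : x ≠ 1 := fun e1 => hf 0 (by rw [h, e1]; simp)
  obtain ⟨τ, rfl, rfl⟩ := exists_coord ha hf hx cx hx1
  set s' := τ⁻¹ * s * τ with hs'
  have es : s = τ * s' * τ⁻¹ := by rw [hs']; group
  have h8 : s' ^ 8 = 1 := by
    rw [hs', show τ⁻¹ * s * τ = τ⁻¹ * s * τ⁻¹⁻¹ by rw [inv_inv], conj_pow, hs]; group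
  set F : Set (Fin 8) := {τ 6, τ 7} with hF
  have hxF : ∀ p ∈ F, (τ * y0 * τ⁻¹) p = p := by
    have hv : y0 6 = 6 ∧ y0 7 = 7 := by decide +kernel
    rintro p (rfl | rfl) <;> simp [hv.1, hv.2]
  have bad : (∀ p, p ∈ F ↔ (s p ≠ p)) ∨ (∀ p, p ∈ F ↔ (s p = p)) → False := by
    intro hb
    have hp : ∀ q, Commute s q → ∀ p, p ∈ F ↔ q p ∈ F := fun q hq p => by
      have h1 : s (q p) = q (s p) := by rw [← Perm.mul_apply, hq.eq, Perm.mul_apply]
      rcases hb with hb | hb <;> rw [hb, hb, h1]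
      · rw [q.injective.ne_iff]
      · rw [q.injective.eq_iff]
    exact hf (τ 6) (by rw [h]; exact fix_dcomm hxF (hp e se) (hp e' se') (Or.inl rfl))
  rcases two_part_coord s' (commute_of_conj τ sa) (commute_of_conj τ sx.symm) h8 with e1 | e1 | e1 | e1
  · exact Or.inl (by rw [es, e1, mul_one, mul_inv_cancel])
  · exact Or.inr (by rw [es, e1])
  · refine (bad (Or.inl fun p => ?_)).elim
    obtain ⟨q, rfl⟩ := τ.surjective p
    rw [es, e1]
    simp only [Perm.mul_apply, Perm.coe_inv, Equiv.symm_apply_apply, hF, Set.mem_insert_iff,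
      Set.mem_singleton_iff, τ.injective.eq_iff, ne_eq]
    revert q
    decide +kernel
  · refine (bad (Or.inr fun p => ?_)).elim
    obtain ⟨q, rfl⟩ := τ.surjective p
    rw [es, e1]
    simp only [Perm.mul_apply, Perm.coe_inv, Equiv.symm_apply_apply, hF, Set.mem_insert_iff,
      Set.mem_singleton_iff, τ.injective.eq_iff]
    revert q
    decide +kernel

/-- An element of order three is moved out of a group of exponent three by another one. -/
theorem exists_not_normalizing {a y : S8} (ha : a * a = 1) (hf : ∀ p, a p ≠ p) (hy : y ^ 3 = 1) (hy1 : y ≠ 1)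
    (hay : Commute a y) : ∃ x : S8, x ^ 3 = 1 ∧ Commute a x ∧ (y * (x * y * x⁻¹)) ^ 3 ≠ 1 := by
  obtain ⟨τ, rfl, rfl⟩ := exists_coord ha hf hy hay hy1
  have key : (c3 2 5 7 * c3 3 4 6) ^ 3 = 1 ∧
      a0 * (c3 2 5 7 * c3 3 4 6) = c3 2 5 7 * c3 3 4 6 * a0 ∧
      (y0 * (c3 2 5 7 * c3 3 4 6 * y0 * (c3 2 5 7 * c3 3 4 6)⁻¹)) ^ 3 ≠ 1 := by decide +kernel
  refine ⟨τ * (c3 2 5 7 * c3 3 4 6) * τ⁻¹, by rw [conj_pow, key.1, mul_one, mul_inv_cancel],
    commute_conj τ key.2.1, fun h => key.2.2 ?_⟩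
  rw [show τ * y0 * τ⁻¹ * (τ * (c3 2 5 7 * c3 3 4 6) * τ⁻¹ * (τ * y0 * τ⁻¹) *
      (τ * (c3 2 5 7 * c3 3 4 6) * τ⁻¹)⁻¹) =
      τ * (y0 * (c3 2 5 7 * c3 3 4 6 * y0 * (c3 2 5 7 * c3 3 4 6)⁻¹)) * τ⁻¹ by group, conj_pow] at h
  exact conj_eq_one_iff.1 h

/-- A square root of a fixed-point-free involution is a product of two commuting-with-it elements of order three. -/
theorem sqrt_product {a t : S8} (ha : a * a = 1) (hf : ∀ p, a p ≠ p) (ht : t * t = a) :
    ∃ x y : S8, x ^ 3 = 1 ∧ y ^ 3 = 1 ∧ Commute a x ∧ Commute a y ∧ t = x * y := by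
  have h4 : t ^ 4 = 1 := by rw [show (4 : ℕ) = 2 + 2 from rfl, pow_add, pow_two, ht, ha]
  have hall : ∀ n ∈ t.cycleType, n = 4 := by
    intro n hn
    have h2 := Perm.two_le_of_mem_cycleType hn
    have h4' : n ∣ 4 := (Multiset.dvd_lcm hn).trans (Perm.lcm_cycleType t ▸ orderOf_dvd_of_pow_eq_one h4)
    have := Nat.le_of_dvd (by norm_num) h4'
    obtain ⟨c, τ, hct, hd, hc, hcs⟩ := Perm.mem_cycleType_iff.1 hn
    by_contra hne
    have hn2 : n = 2 := by
      rcases (show n = 2 ∨ n = 3 by omega) with e | e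
      · exact e
      · exact absurd (e ▸ h4') (by decide)
    obtain ⟨p, hp⟩ := Finset.card_pos.1 (show 0 < c.support.card by omega)
    have hp2 : (c ^ 2) p = p := by
      rw [← hn2, ← hcs, ← hc.orderOf, pow_orderOf_eq_one, Perm.one_apply]
    refine hf p ?_
    rw [← ht, ← pow_two, hct, hd.commute.mul_pow, Perm.mul_apply]
    have hτ : τ p = p := (hd p).resolve_left (Perm.mem_support.1 hp)
    rw [show (τ ^ 2) p = p by rw [pow_two, Perm.mul_apply, hτ, hτ], hp2]
  have hfix : t.support = Finset.univ := Finset.eq_univ_of_forall fun p => by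
    rw [Perm.mem_support]
    intro e
    exact hf p (by rw [← ht, Perm.mul_apply, e, e])
  have hrep := Multiset.eq_replicate_card.2 hall
  have hsum : 4 * t.cycleType.card = 8 := by
    have h := t.sum_cycleType
    rw [hrep, Multiset.sum_replicate, smul_eq_mul, hfix, Finset.card_univ, Fintype.card_fin] at h
    omega
  have hc : IsConj t0 t := isConj_iff_cycleType_eq.2 (by
    rw [hrep, show t.cycleType.card = 2 by omega]
    decide +kernel)
  obtain ⟨τ, rfl⟩ := isConj_iff.1 hc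
  have key : (c3 2 4 6 * c3 3 5 7) ^ 3 = 1 ∧ (c3 0 6 3 * c3 1 7 2) ^ 3 = 1 ∧
      a0 * (c3 2 4 6 * c3 3 5 7) = c3 2 4 6 * c3 3 5 7 * a0 ∧
      a0 * (c3 0 6 3 * c3 1 7 2) = c3 0 6 3 * c3 1 7 2 * a0 ∧
      t0 = c3 2 4 6 * c3 3 5 7 * (c3 0 6 3 * c3 1 7 2) ∧ t0 * t0 = a0 := by decide +kernel
  obtain ⟨k1, k2, k3, k4, k5, k6⟩ := key
  have ea : a = τ * a0 * τ⁻¹ := by rw [← ht, ← k6]; group
  refine ⟨τ * (c3 2 4 6 * c3 3 5 7) * τ⁻¹, τ * (c3 0 6 3 * c3 1 7 2) * τ⁻¹,
    by rw [conj_pow, k1, mul_one, mul_inv_cancel], by rw [conj_pow, k2, mul_one, mul_inv_cancel],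
    ea ▸ commute_conj τ k3, ea ▸ commute_conj τ k4, ?_⟩
  rw [k5]; group

end Cfsg.Lib.StdMcl
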