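import Cfsg.Agent.Lib.StdMcl.Perms
import Cfsg.Agent.S2119

/-!
# The centralizer of a tightly embedded double cover of the alternating group of degree eight
-/

set_option autoImplicit false
set_option linter.style.haveILetI false
set_option maxRecDepth 20000
set_option linter.unusedSectionVars false

namespace Cfsg.Lib.StdMcl

open Equiv Equiv.Perm Subgroup Cfsg.Lib.CoverAlt
open scoped commutatorElement

variable {G : Type*} [Group G] {L : Subgroup G}

/-- A two-element of the permutations of eight points has order dividing eight. -/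
theorem pow_eight_of_two {s : S8} {n : ℕ} (h : s ^ 2 ^ n = 1) : s ^ 8 = 1 := by
  rw [← orderOf_dvd_iff_pow_eq_one, ← Perm.lcm_cycleType, Multiset.lcm_dvd]
  intro m hm
  have hd : m ∣ 2 ^ n := (Multiset.dvd_lcm hm).trans (Perm.lcm_cycleType s ▸ orderOf_dvd_of_pow_eq_one h)
  obtain ⟨k, -, rfl⟩ := (Nat.dvd_prime_pow Nat.prime_two).1 hd
  have hle : 2 ^ k ≤ 8 := (Multiset.le_sum_of_mem hm).trans ((Perm.sum_cycleType_le s).trans (by simp))
  exact pow_dvd_pow 2 (show k ≤ 3 from (Nat.pow_le_pow_iff_right (show 1 < 2 by norm_num)).1 hle)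

/-- The hypotheses on the double cover and its centralizer. -/
structure Sit (C : Cov L 8) : Prop where
  perfect : commutator ↥L = ⊤
  cent : ∀ x : L, x ∈ center L → x = 1 ∨ x = C.s
  card : Nat.card L = 40320
  norm : ∀ m : G, m * C.s = C.s * m → m ∈ normalizer (L : Set G)
  tight : ∀ g : G, g * C.s ≠ C.s * g →
    Odd (Nat.card ↥(centralizer (L : Set G) ⊓ (centralizer (L : Set G)).map (MulAut.conj g).toMonoidHom))

open scoped Classical in
/-- The permutation induced on eight points by an element normalizing the cover. -/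
noncomputable def pi (C : Cov L 8) (m : G) : S8 :=
  if h : ∃ σ : S8, ∀ l l' : L, (l' : G) = m * l * m⁻¹ → C.p l' = σ * C.p l * σ⁻¹ then h.choose else 1

namespace Sit

variable {C : Cov L 8} (S : Sit C)

include S

theorem lz (l : L) : (l : G) * C.s = C.s * l := congrArg Subtype.val (C.comm l)

theorem kl {k : G} (hk : k ∈ centralizer (L : Set G)) (l : L) : (l : G) * k = k * l :=
  mem_centralizer_iff.1 hk l l.2

theorem zK : ((C.s : L) : G) ∈ centralizer (L : Set G) :=
  mem_centralizer_iff.2 fun l hl => S.lz ⟨l, hl⟩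

theorem kz {k : G} (hk : k ∈ centralizer (L : Set G)) : k * C.s = C.s * k := (S.kl hk C.s).symm

theorem inter {x : L} (hx : (x : G) ∈ centralizer (L : Set G)) : x = 1 ∨ x = C.s :=
  S.cent x (mem_center_iff.2 fun y => Subtype.ext (mem_centralizer_iff.1 hx y y.2))

theorem z1 : ((C.s : L) : G) ≠ 1 := fun e => C.s1 (Subtype.ext e)

theorem z2 : ((C.s : L) : G) * C.s = 1 := congrArg Subtype.val C.ss

theorem zo : orderOf ((C.s : L) : G) = 2 := orderOf_eq_prime (by rw [pow_two, S.z2]) S.z1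

/-- The image of an element of the cover under conjugation. -/
noncomputable def cj {m : G} (hm : m * C.s = C.s * m) : MulAut L where
  toFun x := ⟨m * x * m⁻¹, (mem_normalizer_iff.1 (S.norm m hm) x).1 x.2⟩
  invFun x := ⟨m⁻¹ * x * m, by
    have := (mem_normalizer_iff.1 (inv_mem (S.norm m hm)) x).1 x.2
    rwa [inv_inv] at this⟩
  left_inv x := Subtype.ext (by show m⁻¹ * (m * (x : G) * m⁻¹) * m = x; group)
  right_inv x := Subtype.ext (by show m * (m⁻¹ * (x : G) * m) * m⁻¹ = x; group)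
  map_mul' x y := Subtype.ext (by show m * ((x : G) * y) * m⁻¹ = _; simp [mul_assoc])

theorem cj_coe {m : G} (hm : m * C.s = C.s * m) (l : L) : ((S.cj hm l : L) : G) = m * l * m⁻¹ := rfl

theorem cj_s {m : G} (hm : m * C.s = C.s * m) : S.cj hm C.s = C.s :=
  Subtype.ext (by rw [S.cj_coe, hm, mul_inv_cancel_right])

theorem exists_perm {m : G} (hm : m * C.s = C.s * m) :
    ∃ σ : S8, ∀ l l' : L, (l' : G) = m * l * m⁻¹ → C.p l' = σ * C.p l * σ⁻¹ := by
  classical
  let f : L →* alternatingGroup (Fin 8) :=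
    C.p.codRestrict _ fun l => mem_alternatingGroup.2 (C.sign_eq l)
  have hf : Function.Surjective f := fun σ => by
    obtain ⟨l, hl⟩ := C.surj σ (mem_alternatingGroup.1 σ.2)
    exact ⟨l, Subtype.ext hl⟩
  have hker : f.ker ≤ (f.comp (S.cj hm).toMonoidHom).ker := fun l hl => by
    have hl' : C.p l = 1 := congrArg Subtype.val (MonoidHom.mem_ker.1 hl)
    refine MonoidHom.mem_ker.2 (Subtype.ext ?_)
    show C.p (S.cj hm l) = 1
    rcases C.ker l hl' with rfl | rfl
    · rw [map_one, map_one]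
    · rw [S.cj_s, C.ps]
  let g := f.liftOfSurjective hf ⟨f.comp (S.cj hm).toMonoidHom, hker⟩
  have hg : ∀ l, g (f l) = f (S.cj hm l) := fun l =>
    DFunLike.congr_fun (MonoidHom.liftOfRightInverse_comp f _ (Function.rightInverse_surjInv hf)
      ⟨f.comp (S.cj hm).toMonoidHom, hker⟩) l
  have hgs : Function.Surjective g := fun σ => by
    obtain ⟨l, rfl⟩ := hf σ
    exact ⟨f ((S.cj hm).symm l), by rw [hg, MulEquiv.apply_symm_apply]⟩
  obtain ⟨σ, hσ⟩ := (Cfsg.Agent.S2119.result 8 (by norm_num) (by norm_num)).2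
    (MulEquiv.ofBijective g ⟨Finite.injective_iff_surjective.2 hgs, hgs⟩)
  refine ⟨σ, fun l l' hl => ?_⟩
  have e : l' = S.cj hm l := Subtype.ext hl
  have h1 := congrArg Subtype.val (DFunLike.congr_fun hσ (f l))
  rw [MulAut.conjNormal_apply] at h1
  have h2 : C.p l' = ((g (f l) : alternatingGroup (Fin 8)) : S8) := by rw [hg, e]; rfl
  rw [h2]
  exact h1.symm

theorem perm_unique {σ τ : S8} (h : ∀ l : L, σ * C.p l * σ⁻¹ = τ * C.p l * τ⁻¹) : σ = τ := by
  refine (Cfsg.Agent.S2119.result 8 (by norm_num) (by norm_num)).1 (MulEquiv.ext fun a => Subtype.ext ?_)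
  obtain ⟨l, hl⟩ := C.surj (a : S8) (mem_alternatingGroup.1 a.2)
  rw [MulAut.conjNormal_apply, MulAut.conjNormal_apply, ← hl]
  exact h l

theorem pi_spec {m : G} (hm : m * C.s = C.s * m) (l : L) :
    C.p (S.cj hm l) = pi C m * C.p l * (pi C m)⁻¹ := by
  rw [pi, dif_pos (S.exists_perm hm)]
  exact (S.exists_perm hm).choose_spec l _ (S.cj_coe hm l)

theorem pi_mul {m n : G} (hm : m * C.s = C.s * m) (hn : n * C.s = C.s * n) :
    pi C (m * n) = pi C m * pi C n := by
  have hmn : m * n * C.s = C.s * (m * n) := by rw [mul_assoc, hn, ← mul_assoc, hm, mul_assoc]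
  refine S.perm_unique fun l => ?_
  rw [← S.pi_spec hmn l, show S.cj hmn l = S.cj hm (S.cj hn l) from
    Subtype.ext (by simp only [S.cj_coe]; group), S.pi_spec hm, S.pi_spec hn]
  group

theorem pi_L (l : L) : pi C (l : G) = C.p l := by
  refine S.perm_unique fun x => ?_
  rw [← S.pi_spec (S.lz l) x, show S.cj (S.lz l) x = l * x * l⁻¹ from Subtype.ext rfl, map_mul, map_mul, map_inv]

theorem pi_K {k : G} (hk : k ∈ centralizer (L : Set G)) : pi C k = 1 := by
  refine S.perm_unique fun x => ?_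
  rw [← S.pi_spec (S.kz hk) x, one_mul, inv_one, mul_one]
  congr 1
  exact Subtype.ext (by rw [S.cj_coe, ← S.kl hk x, mul_inv_cancel_right])

theorem pi_one : pi C (1 : G) = 1 := S.pi_K (one_mem _)

theorem mem_K_of_pi {m : G} (hm : m * C.s = C.s * m) (h : pi C m = 1) : m ∈ centralizer (L : Set G) := by
  have hd : ∀ x : L, S.cj hm x * x⁻¹ = 1 ∨ S.cj hm x * x⁻¹ = C.s := fun x => C.ker _ (by
    rw [map_mul, map_inv, S.pi_spec hm, h, one_mul, inv_one, mul_one, mul_inv_cancel])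
  let H : Subgroup L :=
    { carrier := {x | S.cj hm x = x}
      one_mem' := map_one _
      mul_mem' := fun {x y} hx hy => by
        show S.cj hm (x * y) = x * y
        rw [map_mul, (hx : S.cj hm x = x), (hy : S.cj hm y = y)]
      inv_mem' := fun {x} hx => by
        show S.cj hm x⁻¹ = x⁻¹
        rw [map_inv, (hx : S.cj hm x = x)] }
  have hcent : ∀ x : L, S.cj hm x * x⁻¹ ∈ center L := fun x => mem_center_iff.2 fun y => by
    rcases hd x with e | e <;> rw [e]
    · rw [mul_one, one_mul]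
    · exact C.comm y
  have hH : commutator ↥L ≤ H := by
    rw [commutator_def, commutator_le]
    intro x _ y _
    show S.cj hm ⁅x, y⁆ = ⁅x, y⁆
    rw [map_commutatorElement]
    obtain ⟨a, ha, ea⟩ : ∃ a ∈ center L, S.cj hm x = a * x := ⟨_, hcent x, by group⟩
    obtain ⟨b, hb, eb⟩ : ∃ b ∈ center L, S.cj hm y = b * y := ⟨_, hcent y, by group⟩
    rw [ea, eb, commutatorElement_def, commutatorElement_def, mul_inv_rev, mul_inv_rev]
    have a1 := mem_center_iff.1 ha
    have b1 := mem_center_iff.1 hb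
    calc a * x * (b * y) * (x⁻¹ * a⁻¹) * (y⁻¹ * b⁻¹)
        = a * (x * b) * y * x⁻¹ * (a⁻¹ * y⁻¹) * b⁻¹ := by group
      _ = a * (b * x) * y * x⁻¹ * (y⁻¹ * a⁻¹) * b⁻¹ := by
        rw [b1 x, show a⁻¹ * y⁻¹ = y⁻¹ * a⁻¹ by rw [← mul_inv_rev, ← mul_inv_rev, a1 y]]
      _ = a * (b * (x * y * x⁻¹ * y⁻¹)) * a⁻¹ * b⁻¹ := by group
      _ = a * ((x * y * x⁻¹ * y⁻¹) * b) * a⁻¹ * b⁻¹ := by rw [b1 (x * y * x⁻¹ * y⁻¹)]
      _ = (x * y * x⁻¹ * y⁻¹) * (a * (b * a⁻¹)) * b⁻¹ := by
        rw [show a * ((x * y * x⁻¹ * y⁻¹) * b) = (a * (x * y * x⁻¹ * y⁻¹)) * b by group, ← a1]; group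
      _ = _ := by rw [← a1 (b * a⁻¹)]; group
  rw [S.perfect, top_le_iff] at hH
  refine mem_centralizer_iff.2 fun x hx => ?_
  have := congrArg Subtype.val (hH ▸ mem_top (⟨x, hx⟩ : L) : (⟨x, hx⟩ : L) ∈ H)
  rw [S.cj_coe] at this
  exact (mul_inv_eq_iff_eq_mul.1 this).symm

theorem pi_inv {m : G} (hm : m * C.s = C.s * m) : pi C m⁻¹ = (pi C m)⁻¹ := by
  have hi : m⁻¹ * C.s = C.s * m⁻¹ := (Commute.inv_left hm).eq
  rw [eq_inv_iff_mul_eq_one, ← S.pi_mul hi hm, inv_mul_cancel, S.pi_one]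

theorem pi_commute {m n : G} (hm : m * C.s = C.s * m) (hn : n * C.s = C.s * n) (h : Commute m n) :
    Commute (pi C m) (pi C n) := by
  show _ = _
  rw [← S.pi_mul hm hn, ← S.pi_mul hn hm, h.eq]

theorem pi_commutator {m n : G} (hm : m * C.s = C.s * m) (hn : n * C.s = C.s * n) :
    pi C ⁅m, n⁆ = ⁅pi C m, pi C n⁆ := by
  have hi : m⁻¹ * C.s = C.s * m⁻¹ := (Commute.inv_left hm).eq
  have hj : n⁻¹ * C.s = C.s * n⁻¹ := (Commute.inv_left hn).eq
  have h1 : m * n * C.s = C.s * (m * n) := (Commute.mul_left hm hn).eq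
  have h2 : m * n * m⁻¹ * C.s = C.s * (m * n * m⁻¹) := (Commute.mul_left h1 hi).eq
  rw [commutatorElement_def, commutatorElement_def, S.pi_mul h2 hj, S.pi_mul h1 hi, S.pi_mul hm hn, S.pi_inv hm,
    S.pi_inv hn]

theorem pi_pow {m : G} (hm : m * C.s = C.s * m) (n : ℕ) : pi C (m ^ n) = pi C m ^ n := by
  induction n with
  | zero => rw [pow_zero, pow_zero, S.pi_one]
  | succ n ih => rw [pow_succ, pow_succ, S.pi_mul (Commute.pow_left hm n).eq hm, ih]

/-- An element inducing an even permutation splits. -/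
theorem split {m : G} (hm : m * C.s = C.s * m) (h : Perm.sign (pi C m) = 1) :
    ∃ l : L, ∃ k ∈ centralizer (L : Set G), m = (l : G) * k := by
  obtain ⟨l, hl⟩ := C.surj _ h
  refine ⟨l, (l : G)⁻¹ * m, S.mem_K_of_pi (Commute.mul_left (Commute.inv_left (S.lz l)) hm).eq ?_, by group⟩
  rw [S.pi_mul (Commute.inv_left (S.lz l)).eq hm, S.pi_inv (S.lz l), S.pi_L, hl, inv_mul_cancel]

/-- An element of order three of the cover is fixed by whatever centralizes its image. -/
theorem comm_cube {m : G} (hm : m * C.s = C.s * m) {x : L} (hx : x ^ 3 = 1)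
    (h : Commute (pi C m) (C.p x)) : Commute m (x : G) := by
  rcases C.eq_or_eq (x := S.cj hm x) (y := x) (by rw [S.pi_spec hm, h.eq, mul_inv_cancel_right]) with e | e
  · have := congrArg Subtype.val e
    rw [S.cj_coe] at this
    exact mul_inv_eq_iff_eq_mul.1 this
  · exfalso
    have h3 : (S.cj hm x) ^ 3 = 1 := by rw [← map_pow, hx, map_one]
    rw [e, (show Commute x C.s from C.comm x).mul_pow, hx, one_mul, C.pow_s_odd (by decide)] at h3
    exact C.s1 h3

theorem exists_cube_lift {σ : S8} (h : σ ^ 3 = 1) : ∃ x : L, C.p x = σ ∧ x ^ 3 = 1 := by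
  have hd := orderOf_dvd_of_pow_eq_one h
  obtain ⟨x, hx, hx'⟩ := C.exists_odd_lift (σ := σ) ((show Odd 3 by decide).of_dvd_nat hd)
  obtain ⟨k, hk⟩ := hd
  exact ⟨x, hx, by rw [hk, pow_mul, hx', one_pow]⟩

/-- A commutator with a lift is fixed by whatever centralizes the two images. -/
theorem comm_commutator {m : G} (hm : m * C.s = C.s * m) {x q : L} (hx : Commute m (x : G))
    (h : Commute (pi C m) (C.p q)) : Commute m ((⁅x, q⁆ : L) : G) := by
  have hx' : S.cj hm x = x := Subtype.ext (by rw [S.cj_coe, hx.eq, mul_inv_cancel_right])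
  have key : S.cj hm ⁅x, q⁆ = ⁅x, q⁆ := by
    rw [map_commutatorElement, hx']
    rcases C.eq_or_eq (x := S.cj hm q) (y := q) (by rw [S.pi_spec hm, h.eq, mul_inv_cancel_right]) with e | e
    · rw [e]
    · rw [e, commutatorElement_def, commutatorElement_def, mul_inv_rev, inv_eq_of_mul_eq_one_right C.ss]
      calc x * (q * C.s) * x⁻¹ * (C.s * q⁻¹) = x * q * (C.s * x⁻¹) * (C.s * q⁻¹) := by group
        _ = x * q * (x⁻¹ * C.s) * (C.s * q⁻¹) := by rw [C.comm x⁻¹]
        _ = x * q * x⁻¹ * (C.s * C.s) * q⁻¹ := by group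
        _ = _ := by rw [C.ss, mul_one]
  have := congrArg Subtype.val key
  rw [S.cj_coe] at this
  exact mul_inv_eq_iff_eq_mul.1 this

/-- The central involution is a double commutator in the centralizer of every involution acting nontrivially. -/
theorem exists_dcomm_lift {u : G} (hu : u * C.s = C.s * u) (h2 : u * u = 1) (h1 : pi C u ≠ 1) :
    ∃ x e e' : L, x ^ 3 = 1 ∧ Commute u (x : G) ∧ Commute u (e : G) ∧ Commute u (e' : G) ∧
      ⁅⁅x, e⁆, ⁅x, e'⁆⁆ = C.s := by
  obtain ⟨σx, σq, σq', s1, s2, h3, c1, c2, c3', d1, d2, d3⟩ :=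
    exists_dcomm (by rw [← S.pi_mul hu hu, h2, S.pi_one]) h1
  obtain ⟨x, rfl, hx⟩ := S.exists_cube_lift h3
  obtain ⟨q, rfl⟩ := C.surj σq s1
  obtain ⟨q', rfl⟩ := C.surj σq' s2
  have hux := S.comm_cube hu hx c1
  refine ⟨x, ⁅x, q⁆, ⁅x, q'⁆, hx, hux, S.comm_commutator hu hux c2, S.comm_commutator hu hux c3', ?_⟩
  simp only [← map_commutatorElement] at d1 d2 d3
  rw [commutatorElement_def ⁅x, ⁅x, q⁆⁆, C.anticomm d1 d2 d3,
    show ⁅x, ⁅x, q'⁆⁆ * ⁅x, ⁅x, q⁆⁆ * C.s = C.s * (⁅x, ⁅x, q'⁆⁆ * ⁅x, ⁅x, q⁆⁆) from C.comm _]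
  group

theorem odd_trivial {g x : G} (hg : g * C.s ≠ C.s * g) (hxK : x ∈ centralizer (L : Set G))
    (hx' : g⁻¹ * x * g ∈ centralizer (L : Set G)) {n : ℕ} (hn : x ^ 2 ^ n = 1) : x = 1 := by
  have hmem : x ∈ centralizer (L : Set G) ⊓ (centralizer (L : Set G)).map (MulAut.conj g).toMonoidHom :=
    ⟨hxK, g⁻¹ * x * g, hx', by show g * (g⁻¹ * x * g) * g⁻¹ = x; group⟩
  exact orderOf_eq_one_iff.1 (Nat.eq_one_of_dvd_coprimes ((S.tight g hg).coprime_two_right.pow_right n)
    (Subgroup.orderOf_dvd_natCard _ hmem) (orderOf_dvd_of_pow_eq_one hn))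

end Sit

/-- A conjugate of the central involution commuting with it and different from it. -/
structure Nb (C : Cov L 8) (g : G) : Prop where
  hz : g * C.s * g⁻¹ * C.s = C.s * (g * C.s * g⁻¹)
  hne : g * C.s ≠ C.s * g

variable {C : Cov L 8} {g : G}

theorem Nb.symm (N : Nb C g) : Nb C g⁻¹ := by
  refine ⟨?_, fun h => N.hne (Commute.inv_left_iff.1 (h : Commute g⁻¹ (C.s : G))).eq⟩
  calc g⁻¹ * C.s * g⁻¹⁻¹ * C.s = g⁻¹ * (C.s * (g * C.s * g⁻¹)) * g := by group
    _ = g⁻¹ * (g * C.s * g⁻¹ * C.s) * g := by rw [N.hz]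
    _ = _ := by group

namespace Sit

variable (S : Sit C)

include S

theorem nb_sq (g : G) : g * C.s * g⁻¹ * (g * C.s * g⁻¹) = 1 := by
  rw [show g * (C.s : G) * g⁻¹ * (g * C.s * g⁻¹) = g * ((C.s : G) * C.s) * g⁻¹ by group, S.z2]; group

theorem nb_pi_ne (N : Nb C g) : pi C (g * C.s * g⁻¹) ≠ 1 := fun h => by
  have := S.odd_trivial N.hne (S.mem_K_of_pi N.hz h) (by
    rw [show g⁻¹ * (g * (C.s : G) * g⁻¹) * g = C.s by group]; exact S.zK) (n := 1)
    (by rw [pow_one, pow_two, S.nb_sq])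
  exact S.z1 (conj_eq_one_iff.1 this)

/-- A neighbour moves all eight points and few two-elements of the centralizer of the cover commute with it. -/
theorem nb_facts (N : Nb C g) : (∀ p, pi C (g⁻¹ * C.s * g) p ≠ p) ∧
    ∀ k ∈ centralizer (L : Set G), Commute k (g * C.s * g⁻¹) → ∀ n, k ^ 2 ^ n = 1 → k = 1 ∨ k = C.s := by
  obtain ⟨x, e, e', hx, cx, ce, ce', hd⟩ := S.exists_dcomm_lift N.hz (S.nb_sq g) (S.nb_pi_ne N)
  set c := MulAut.conj g⁻¹ with hc
  have hcu : c (g * C.s * g⁻¹) = C.s := by simp only [hc, MulAut.conj_apply]; group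
  set v := g⁻¹ * (C.s : G) * g with hv
  have hcz : c (C.s : G) = v := by simp only [hc, hv, MulAut.conj_apply]; group
  have cc : ∀ y : G, Commute (g * (C.s : G) * g⁻¹) y → c y * C.s = C.s * c y := fun y hy => by
    have := (hy.map c.toMonoidHom).symm
    rw [MulEquiv.coe_toMonoidHom, hcu] at this
    exact this.eq
  have cv : ∀ l : L, Commute v (c l) := fun l => by
    have := ((show Commute (l : G) C.s from S.lz l).map c.toMonoidHom).symm
    rwa [MulEquiv.coe_toMonoidHom, hcz] at this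
  have hzv : v * C.s = C.s * v := by rw [← hcz]; exact cc _ N.hz
  have mx := cc _ cx
  have me := cc _ ce
  have me' := cc _ ce'
  have hveq : v = ⁅⁅c x, c e⁆, ⁅c x, c e'⁆⁆ := by
    rw [← hcz, ← hd, ← map_commutatorElement, ← map_commutatorElement, ← map_commutatorElement]
    exact congrArg c (by push_cast [commutatorElement_def]; rfl)
  have m1 : ∀ p q : G, p * C.s = C.s * p → q * C.s = C.s * q → ⁅p, q⁆ * C.s = C.s * ⁅p, q⁆ := fun p q hp hq =>
    (((Commute.mul_left hp hq).mul_left (Commute.inv_left hp)).mul_left (Commute.inv_left hq)).eq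
  have ha : pi C v = ⁅⁅pi C (c x), pi C (c e)⁆, ⁅pi C (c x), pi C (c e')⁆⁆ := by
    conv_lhs => rw [hveq]
    rw [S.pi_commutator (m1 _ _ mx me) (m1 _ _ mx me'), S.pi_commutator mx me, S.pi_commutator mx me']
  have hv2 : v * v = 1 := by
    rw [hv, show g⁻¹ * (C.s : G) * g * (g⁻¹ * C.s * g) = g⁻¹ * ((C.s : G) * C.s) * g by group, S.z2]; group
  have ha2 : pi C v * pi C v = 1 := by rw [← S.pi_mul hzv hzv, hv2, S.pi_one]
  have ha1 : pi C v ≠ 1 := by
    have := S.nb_pi_ne N.symm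
    rwa [inv_inv] at this
  have hX : pi C (c x) ^ 3 = 1 := by
    rw [← S.pi_pow mx, ← map_pow, ← Subgroup.coe_pow, hx, Subgroup.coe_one, map_one, S.pi_one]
  have cX := S.pi_commute hzv mx (cv x)
  have cE := S.pi_commute hzv me (cv e)
  have cE' := S.pi_commute hzv me' (cv e')
  have hfix := no_fixed ha2 ha1 hX cX cE cE' ha
  refine ⟨hfix, fun k hk hku n hn => ?_⟩
  set w := c k with hw
  have mw : w * C.s = C.s * w := cc _ hku.symm
  have cwv : Commute w v := by
    have := (show Commute k (C.s : G) from S.kz hk).map c.toMonoidHom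
    rwa [MulEquiv.coe_toMonoidHom, hcz] at this
  have cl : ∀ l : L, Commute w (c l) := fun l =>
    ((show Commute (l : G) k from S.kl hk l).map c.toMonoidHom).symm
  have hwn : w ^ 2 ^ n = 1 := by rw [hw, ← map_pow, hn, map_one]
  have h8 : pi C w ^ 8 = 1 := pow_eight_of_two (n := n) (by rw [← S.pi_pow mw, hwn, S.pi_one])
  rcases two_elt_dcomm ha2 hfix hX cX cE cE' (S.pi_commute hzv mw cwv.symm) (S.pi_commute mw mx (cl x))
    (S.pi_commute mw me (cl e)) (S.pi_commute mw me' (cl e')) ha h8 with h | h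
  · left
    have := S.odd_trivial (g := g⁻¹) N.symm.hne (S.mem_K_of_pi mw h) (by
      rw [hw, inv_inv, MulAut.conj_apply, show g * (g⁻¹ * k * g⁻¹⁻¹) * g⁻¹ = k by group]; exact hk) hwn
    exact c.map_eq_one_iff.1 this
  · right
    have hm : w * v * C.s = C.s * (w * v) := (Commute.mul_left mw hzv).eq
    have h1 : pi C (w * v) = 1 := by rw [S.pi_mul mw hzv, h, ha2]
    have := S.odd_trivial (g := g⁻¹) N.symm.hne (x := w * v) (S.mem_K_of_pi hm h1) (by
      rw [hw, ← hcz, ← map_mul, inv_inv, MulAut.conj_apply,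
        show g * (g⁻¹ * (k * C.s) * g⁻¹⁻¹) * g⁻¹ = k * C.s by group]
      exact mul_mem hk S.zK) (n := n + 1) (by
      rw [cwv.mul_pow, pow_succ, pow_mul, hwn, one_pow, one_mul, mul_comm (2 ^ n), pow_mul, pow_two, hv2, one_pow])
    rw [hw, ← hcz, ← map_mul, c.map_eq_one_iff] at this
    rw [eq_inv_of_mul_eq_one_left this]
    exact inv_eq_of_mul_eq_one_right S.z2

/-- A neighbour lies in the cover and moves all eight points. -/
theorem nb_mem (N : Nb C g) : ∃ l : L, (l : G) = g * C.s * g⁻¹ ∧ ∀ p, C.p l p ≠ p := by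
  obtain ⟨hfix, -⟩ := S.nb_facts N.symm
  rw [inv_inv] at hfix
  obtain ⟨-, hK⟩ := S.nb_facts N
  set u := g * (C.s : G) * g⁻¹ with hu
  have hu2 : u * u = 1 := S.nb_sq g
  have hsign : Perm.sign (pi C u) = 1 := by
    obtain ⟨b, hb, hc⟩ := involution_rep (a := pi C u) (by rw [← S.pi_mul N.hz N.hz, hu2, S.pi_one])
      (S.nb_pi_ne N)
    obtain ⟨τ, hτ⟩ := isConj_iff.1 hc
    rw [← hτ, map_mul, map_mul, map_inv, mul_right_comm, mul_inv_cancel, one_mul]
    simp only [List.mem_cons, List.not_mem_nil, or_false] at hb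
    have hb' : b = a0 := by
      rcases hb with rfl | rfl | rfl | rfl
      · exact absurd (hfix (τ 7)) (by rw [← hτ]; simp [Equiv.swap_apply_def])
      · exact absurd (hfix (τ 7)) (by rw [← hτ]; simp [Equiv.swap_apply_def])
      · exact absurd (hfix (τ 7)) (by rw [← hτ]; simp [Equiv.swap_apply_def])
      · rfl
    rw [hb']; decide +kernel
  obtain ⟨l, k, hk, e⟩ := S.split N.hz hsign
  replace e : u = (l : G) * k := e
  have hlk : Commute (l : G) k := S.kl hk l
  have hku : Commute k u := by rw [e]; exact hlk.symm.mul_right (Commute.refl k)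
  have hk4 : k ^ 2 ^ 2 = 1 := by
    have h0 : ((l : G) * l) * (k * k) = 1 := by
      rw [← hlk.symm.mul_mul_mul_comm (l : G) k, ← e, hu2]
    have hll : ((l * l : L) : G) ∈ centralizer (L : Set G) := by
      rw [Subgroup.coe_mul, eq_inv_of_mul_eq_one_left h0]; exact inv_mem (mul_mem hk hk)
    rw [show (2 : ℕ) ^ 2 = 2 + 2 by norm_num, pow_add, pow_two]
    rcases S.inter hll with h | h <;> have h' := congrArg Subtype.val h <;>
      rw [Subgroup.coe_mul] at h' <;> rw [h'] at h0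
    · rw [Subgroup.coe_one, one_mul] at h0; rw [h0, one_mul]
    · rw [eq_inv_of_mul_eq_one_right h0, inv_eq_of_mul_eq_one_right S.z2, S.z2]
  obtain ⟨l', hl'⟩ : ∃ l' : L, (l' : G) = u := by
    rcases hK k hk hku 2 hk4 with h | h
    · exact ⟨l, by rw [e, h, mul_one]⟩
    · exact ⟨l * C.s, by rw [e, h, Subgroup.coe_mul]⟩
  exact ⟨l', hl', by rw [← S.pi_L, hl']; exact hfix⟩

/-- The two-elements of the centralizer of the cover are its central involution. -/
theorem two_elt_K (N : Nb C g) {k : G} (hk : k ∈ centralizer (L : Set G)) {n : ℕ} (hn : k ^ 2 ^ n = 1) :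
    k = 1 ∨ k = C.s := by
  obtain ⟨l, hl, -⟩ := S.nb_mem N
  exact (S.nb_facts N).2 k hk (by rw [← hl]; exact (S.kl hk l).symm) n hn

end Sit

end Cfsg.Lib.StdMcl
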